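import Cfsg.Agent.H478.RadTools_m3
import Cfsg.Agent.S4441
import Cfsg.Agent.Blocks.ExistsModular
import Cfsg.Agent.Characters.ClassMul
import Cfsg.Agent.Characters.Linear
import Cfsg.Agent.H686.CharKit
import Cfsg.Agent.FastGrp
import Cfsg.Agent.Prune
set_option linter.all false

section
prune_inst 0x7ffcfefcefadaddedfff7fbfffd9dffe13c4cfffffdfff43ffebef9fcf9f03f339edfb951df4d8ffdff7e2be30b87853fb7eefffef6fdc7ffffdfff41ffbee1fb5e7b78971dd8cb40fbe2fff03f37feaff3ffffffffffffffffffffffffffffffffdffffffff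

-- part: H587/AA/Cyc
section
prune_inst 0x100001010400120000000002200000002000000200000000400000040000002000402000000000000000000000000000000000000000000000000000000000208000000001000100000009000001100000000000000000000000000000000000000000000
set_option linter.all false
open scoped Cfsg.Agent.FastGrp

/-!
# Sylow subgroups of prime order and products of two conjugates (helper587, for S3833)
-/

set_option autoImplicit false
set_option linter.style.haveILetI false

namespace Cfsg.Agent.H587.AA

open Cfsg Subgroup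
open Cfsg.Agent.H460.AA
open Cfsg.Agent.Characters.Core

universe u

/-- In a simple group the index `|N(P) : C(P)|` is at least 2. -/
theorem two_le_relIndex {G : Type u} [Group G] [Finite G] [IsSimpleGroup G] (hna : ¬ IsMulCommutative G)
    {p : ℕ} [hp : Fact p.Prime] (P : Sylow p G) (hP : Nat.card P = p) :
    2 ≤ (centralizer ((P : Subgroup G) : Set G)).relIndex (normalizer ((P : Subgroup G) : Set G)) := by
  by_contra hcon
  have h0 : (centralizer ((P : Subgroup G) : Set G)).relIndex (normalizer ((P : Subgroup G) : Set G)) ≠ 0 :=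
    Subgroup.index_ne_zero_of_finite
  have h1 : (centralizer ((P : Subgroup G) : Set G)).relIndex (normalizer ((P : Subgroup G) : Set G)) = 1 := by
    omega
  have h2 : normalizer ((P : Subgroup G) : Set G) ≤ centralizer ((P : Subgroup G) : Set G) :=
    Subgroup.relIndex_eq_one.1 h1
  have hcompl := MonoidHom.ker_transferSylow_isComplement' P h2
  rcases (inferInstance : (MonoidHom.transferSylow P h2).ker.Normal).eq_bot_or_eq_top with h3 | h3
  · rw [h3] at hcompl
    have h4 : (P : Subgroup G) = ⊤ := (Subgroup.isComplement'_bot_left).1 hcompl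
    apply hna
    have h5 : Nat.card G = p := by
      rw [← Subgroup.card_top (G := G), ← h4]; exact hP
    haveI : IsCyclic G := isCyclic_of_prime_card h5
    exact ⟨⟨fun x y => by
      letI := IsCyclic.commGroup (α := G)
      exact mul_comm x y⟩⟩
  · rw [h3] at hcompl
    have h4 : (P : Subgroup G) = ⊥ := (Subgroup.isComplement'_top_left).1 hcompl
    have h5 : Nat.card (P : Subgroup G) = 1 := by rw [h4]; exact Subgroup.card_bot
    have h6 : Nat.card (P : Subgroup G) = p := hP
    exact hp.out.one_lt.ne' (h6.symm.trans h5)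

theorem commutator_eq_top {G : Type u} [Group G] [IsSimpleGroup G] (hna : ¬ IsMulCommutative G) :
    commutator G = ⊤ := by
  rcases (inferInstance : (commutator G).Normal).eq_bot_or_eq_top with h | h
  · exfalso
    apply hna
    refine ⟨⟨fun x y => ?_⟩⟩
    have h1 : x * y * x⁻¹ * y⁻¹ ∈ commutator G := commutator_mem_commutator (mem_top x) (mem_top y)
    rw [h, mem_bot] at h1
    have h2 : x * y * (y * x)⁻¹ = 1 := by rw [← h1]; group
    exact mul_inv_eq_one.1 h2
  · exact h

/-- A nontrivial irreducible character of a perfect group has degree at least 2. -/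
theorem two_le_degree {G : Type u} [Group G] (hG : commutator G = ⊤) {χ : G → ℂ} (hχ : IsIrrCharacter G χ)
    (h1 : χ ≠ 1) : ∃ n : ℕ, 2 ≤ n ∧ χ 1 = n := by
  obtain ⟨n, hn, hn1⟩ := isIrr_apply_one hχ
  refine ⟨n, ?_, hn1⟩
  by_contra hcon
  have h2 : n = 1 := by omega
  rw [h2, Nat.cast_one] at hn1
  obtain ⟨f, hf⟩ := Cfsg.Agent.Characters.Linear.exists_hom_of_isIrrCharacter hχ hn1
  apply h1
  rw [hf]
  have h3 : f.ker = ⊤ := by
    rw [eq_top_iff, ← hG]
    exact Abelianization.commutator_subset_ker f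
  funext g
  have h4 : f g = 1 := by
    have : g ∈ f.ker := by rw [h3]; exact mem_top g
    exact this
  rw [h4]; rfl

/-- `pa_cyc` where the bound on the centraliser is only needed for real elements. -/
theorem pa_cyc' {G : Type*} [Group G] [Finite G] [IsSimpleGroup G] (hna : ¬ IsMulCommutative G) {p : ℕ}
    [Fact p.Prime] (hp2 : p ≠ 2) (hP : ∀ P : Sylow p G, Nat.card P = p) {a : G} (ha : orderOf a = p)
    (hC : IsConj a a⁻¹ → Nat.card (Subgroup.centralizer ({a} : Set G)) ^ 2 ≤ Nat.card G) :
    ∃ g : G, ¬ PE p (a * (g * a * g⁻¹)) := by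
  classical
  by_contra hcon
  push Not at hcon
  have hp : p.Prime := Fact.out
  haveI := Fintype.ofFinite G
  obtain ⟨M, hM⟩ := Cfsg.Agent.Blocks.ExistsModular.exists_isPModular hp
  obtain ⟨P⟩ : Nonempty (Sylow p G) := inferInstance
  obtain ⟨X, Y, -, -, hXe, -, εX, ε, hX, -⟩ := Cfsg.Agent.S4441.result p M hM hp2 P (hP P) _ rfl
  have he := two_le_relIndex hna P (hP P)
  rw [← hXe] at he
  -- a nontrivial character
  obtain ⟨χ, hχX, hχ1⟩ : ∃ χ ∈ X, (χ : G → ℂ) ≠ 1 := by
    by_contra hc
    push Not at hc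
    haveI : Finite X := Nat.finite_of_card_ne_zero (by omega)
    haveI : Nontrivial X := Finite.one_lt_card_iff_nontrivial.1 (by omega)
    obtain ⟨x, y, hxy⟩ := exists_pair_ne X
    apply hxy
    apply Subtype.ext
    apply Subtype.ext
    rw [hc x x.2, hc y y.2]
  obtain ⟨hε, -, hval⟩ := hX χ hχX
  obtain ⟨d, hd2, hd⟩ := two_le_degree (commutator_eq_top hna) χ.2 hχ1
  have hcf := isIrr_isClassFunction χ.2
  -- all elements of order p
  have hvalp : ∀ x : G, orderOf x = p → (χ : G → ℂ) x = εX χ := by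
    intro x hx
    have h1 : IsPGroup p (zpowers x) := IsPGroup.of_card (n := 1) (by rw [Nat.card_zpowers, hx, pow_one])
    obtain ⟨Q, hQ⟩ := h1.exists_le_sylow
    obtain ⟨g, hg⟩ := MulAction.exists_smul_eq G Q P
    have h2 : g * x * g⁻¹ ∈ (P : Subgroup G) := by
      rw [← hg]
      exact ⟨x, hQ (mem_zpowers x), rfl⟩
    have h3 : g * x * g⁻¹ ≠ 1 := by
      intro h
      have h4 : x = 1 := by
        calc x = g⁻¹ * (g * x * g⁻¹) * g := by group
          _ = 1 := by rw [h]; group
      rw [h4, orderOf_one] at hx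
      exact hp.one_lt.ne hx
    have h4 := hval _ h2 h3 1 (one_mem _) (by
      rw [orderOf_one]; exact fun h => hp.one_lt.ne' (Nat.dvd_one.1 h))
    rw [mul_one, hcf] at h4
    exact h4
  have hexp : ∀ x : G, PE p x → x = 1 ∨ orderOf x = p := by
    rintro x ⟨k, hk⟩
    rcases Nat.lt_or_ge k 2 with h | h
    · interval_cases k
      · left; rw [pow_zero] at hk; exact orderOf_eq_one_iff.1 hk
      · right; rw [hk, pow_one]
    · exfalso
      have h1 : IsPGroup p (zpowers x) := IsPGroup.of_card (n := k) (by rw [Nat.card_zpowers, hk])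
      obtain ⟨Q, hQ⟩ := h1.exists_le_sylow
      have h2 := Subgroup.card_le_of_le hQ
      rw [Nat.card_zpowers, hk] at h2
      have h3 : Nat.card (Q : Subgroup G) = p := hP Q
      rw [h3] at h2
      have h4 : p ^ 2 ≤ p ^ k := Nat.pow_le_pow_right hp.pos h
      have h5 : p < p ^ 2 := by nlinarith only [hp.one_lt]
      omega
  -- the average
  set c : ℕ := Nat.card (centralizer ({a} : Set G)) with hc
  have hcpos : 0 < c := Nat.card_pos
  have havg := Cfsg.Agent.Characters.Central.sum_char_conj_mul χ.2 a a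
  have hterm : ∀ g : G, (χ : G → ℂ) (g * a * g⁻¹ * a) = if g * a * g⁻¹ = a⁻¹ then (d : ℂ) else (εX χ : ℂ) := by
    intro g
    split_ifs with h
    · rw [h, inv_mul_cancel, hd]
    · have h1 : PE p (g * a * g⁻¹ * a) := by
        have h2 := (hcon g).conj a⁻¹
        have h3 : a⁻¹ * (a * (g * a * g⁻¹)) * a⁻¹⁻¹ = g * a * g⁻¹ * a := by group
        rwa [h3] at h2
      rcases hexp _ h1 with h2 | h2
      · exact absurd (eq_inv_of_mul_eq_one_left h2) h
      · exact hvalp _ h2
  rw [Finset.sum_congr rfl (fun g _ => hterm g), Finset.sum_ite, Finset.sum_const, Finset.sum_const,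
    hvalp a ha, hd, nsmul_eq_mul, nsmul_eq_mul] at havg
  have hsplit : (Finset.univ.filter fun g : G => g * a * g⁻¹ = a⁻¹).card +
      (Finset.univ.filter fun g : G => ¬ g * a * g⁻¹ = a⁻¹).card = Nat.card G := by
    rw [Finset.card_filter_add_card_filter_not, Finset.card_univ, Nat.card_eq_fintype_card]
  set n₀ := (Finset.univ.filter fun g : G => g * a * g⁻¹ = a⁻¹).card with hn₀
  set n₁ := (Finset.univ.filter fun g : G => ¬ g * a * g⁻¹ = a⁻¹).card with hn₁
  have hn₀c : n₀ = 0 ∨ c ^ 2 ≤ Nat.card G ∧ n₀ = c := by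
    by_cases h : IsConj a a⁻¹
    · refine Or.inr ⟨hC h, ?_⟩
      have h1 := Cfsg.Agent.Characters.ClassMul.card_fiber_conj a a⁻¹ h
      rw [hn₀, hc, ← h1, Nat.card_eq_fintype_card, Fintype.card_subtype]
    · left
      rw [hn₀, Finset.card_eq_zero, Finset.filter_eq_empty_iff]
      intro g _ hg
      exact h (isConj_iff.2 ⟨g, hg⟩)
  have hd0 : (d : ℂ) ≠ 0 := by exact_mod_cast (by omega : d ≠ 0)
  rw [eq_div_iff hd0] at havg
  have havg' : ((n₀ : ℤ) * d + n₁ * εX χ) * d = (Nat.card G : ℤ) * εX χ * εX χ := by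
    exact_mod_cast havg
  have hG : (Nat.card G : ℤ) = n₀ + n₁ := by rw [← hsplit]; push_cast; ring
  -- the degree
  have hsq : (d : ℤ) ^ 2 < Nat.card G := by
    haveI := finite_irr (G := G)
    haveI := Fintype.ofFinite (IrrCharacter G)
    have h1 := Cfsg.Agent.H686.CharKit.sum_deg_sq (G := G)
    have hdχ : charDegree (χ : G → ℂ) = d := by
      have h2 := Cfsg.Agent.H686.CharKit.charDegree_irr χ
      rw [hd] at h2
      exact_mod_cast h2
    set one : IrrCharacter G := ⟨1, isIrr_one⟩ with hone
    have hne : one ≠ χ := fun h => hχ1 (by rw [← h])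
    have h2 : ∑ ψ ∈ {one, χ}, charDegree ((ψ : IrrCharacter G) : G → ℂ) ^ 2 ≤
        ∑ ψ : IrrCharacter G, charDegree (ψ : G → ℂ) ^ 2 :=
      Finset.sum_le_univ_sum_of_nonneg (fun _ => Nat.zero_le _)
    rw [Finset.sum_pair hne, h1, hdχ] at h2
    have h3 := Cfsg.Agent.H686.CharKit.charDegree_pos one
    have h4 : 0 < charDegree (one : G → ℂ) ^ 2 := pow_pos h3 2
    have h5 : d ^ 2 < Nat.card G := by omega
    exact_mod_cast h5
  have hd2' : (2 : ℤ) ≤ d := by exact_mod_cast hd2
  have hcpos' : (0 : ℤ) < c := by exact_mod_cast hcpos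
  have hn₁0 : (0 : ℤ) ≤ n₁ := Int.natCast_nonneg _
  have hεε : εX χ * εX χ = 1 := by rcases hε with h | h <;> rw [h] <;> norm_num
  rw [mul_assoc (Nat.card G : ℤ), hεε, mul_one, hG] at havg'
  rw [hG] at hsq
  rcases hn₀c with h0 | ⟨hC', h0⟩
  · rw [h0] at havg' hsq
    push_cast at havg' hsq
    have h1 : (n₁ : ℤ) * (εX χ * d - 1) = 0 := by linear_combination havg'
    have hn₁pos : (0 : ℤ) < n₁ := by linarith only [hsq, _root_.sq_nonneg (↑d : ℤ)]
    rcases mul_eq_zero.1 h1 with h2 | h2
    · omega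
    · rcases hε with h | h <;> rw [h] at h2 <;> omega
  · have hcc : (c : ℤ) ^ 2 ≤ n₀ + n₁ := by rw [← hG]; exact_mod_cast hC'
    rw [h0] at havg' hsq hcc
    rcases hε with h | h
    · rw [h] at havg'
      nlinarith only [hd2, hcpos, hsplit, havg', hC', h0, _root_.sq_nonneg (↑d : ℤ), _root_.Nat.cast_nonneg (α := ℤ) (d), _root_.Nat.cast_nonneg (α := ℤ) (n₁)]
    · rw [h] at havg'
      have h1 : ((c : ℤ) * d - (c + n₁)) * (d + 1) = 0 := by linear_combination havg'
      rcases mul_eq_zero.1 h1 with h2 | h2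
      · -- c d = |G|
        have h3 : (c : ℤ) * d = c + n₁ := by linarith only [h2]
        rw [← h3] at hsq hcc
        have h4 : (d : ℤ) < c := by
          by_contra hcon2
          push Not at hcon2
          nlinarith only [hsq, hcon2]
        have h5 : (c : ℤ) ≤ d := by
          by_contra hcon2
          push Not at hcon2
          nlinarith only [hsplit, hC', h0, h2, h4]
        omega
      · omega

theorem pa_cyc {G : Type*} [Group G] [Finite G] [IsSimpleGroup G] (hna : ¬ IsMulCommutative G) {p : ℕ}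
    [Fact p.Prime] (hp2 : p ≠ 2) (hP : ∀ P : Sylow p G, Nat.card P = p) {a : G} (ha : orderOf a = p)
    (hC : Nat.card (Subgroup.centralizer ({a} : Set G)) ^ 2 ≤ Nat.card G) :
    ∃ g : G, ¬ PE p (a * (g * a * g⁻¹)) :=
  pa_cyc' hna hp2 hP ha fun _ => hC

end Cfsg.Agent.H587.AA
end

-- part: H235/AA/CycFull
section
prune_inst 0x20040122000000000000000000000000000000000000000001020000400000020800000000000000000000000000000000000000000000000000000000000000000000000000000000000000000000000000000000000000000000000000000000000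
set_option linter.all false
open scoped Cfsg.Agent.FastGrp

/-!
# Sylow subgroups of prime order: the case without a bound on the centraliser (helper235, for S3833)

`pa_cyc_full`: as `H587.AA.pa_cyc`, no hypothesis on the centraliser.  If all `a * a^g` are `p`-elements then
`|G : C(a)|` is the degree `d` of a character with `d = -1 mod p`; by Sylow all elements of order `p` are conjugate
to `a`, so the `p`-elements form a subgroup.
-/

set_option autoImplicit false
set_option linter.style.haveILetI false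

namespace Cfsg.Agent.H235.AA.Cyc

open Cfsg Subgroup
open Cfsg.Agent.H460.AA Cfsg.Agent.H587.AA
open Cfsg.Agent.Characters.Core

universe u

/-- the degree of a character with value `-1` on the non-trivial elements of a group of order `p` -/
theorem dvd_degree {G : Type u} [Group G] [Finite G] {p : ℕ} (hp : p.Prime) {χ : G → ℂ} (hχ : IsCharacter G χ)
    {a : G} (ha : orderOf a = p) {d : ℕ} (hd : χ 1 = d) (hv : ∀ x ∈ zpowers a, x ≠ 1 → χ x = -1) : p ∣ d + 1 := by
  classical
  haveI := Fintype.ofFinite G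
  have h1 : IsCharacter (zpowers a) (fun h : zpowers a => χ h) := isCharacter_comp (zpowers a).subtype hχ
  have h2 : IsCharacter (zpowers a) (1 : zpowers a → ℂ) := isCharacter_one
  haveI : Fintype (zpowers a) := Fintype.ofFinite _
  obtain ⟨n, hn⟩ := classInner_isNat h1 h2
  rw [classInner_def] at hn
  have hcard : Nat.card (zpowers a) = p := by rw [Nat.card_zpowers, ha]
  rw [hcard] at hn
  have h3 : ∑ x : zpowers a, (fun y : zpowers a => χ y) x * (starRingEnd ℂ) ((1 : zpowers a → ℂ) x) =
      (d : ℂ) - (p - 1) := by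
    have h4 : ∀ x : zpowers a, (fun y : zpowers a => χ y) x * (starRingEnd ℂ) ((1 : zpowers a → ℂ) x) =
        (if x = 1 then ((d : ℂ) + 1) else 0) - 1 := by
      intro x
      simp only [Pi.one_apply, map_one, mul_one]
      split_ifs with h
      · rw [h]; change χ 1 = _; rw [hd]; ring
      · rw [hv x x.2 fun h5 => h (Subtype.ext h5)]; ring
    rw [Finset.sum_congr rfl fun x _ => h4 x, Finset.sum_sub_distrib, Finset.sum_ite_eq' Finset.univ (1 : zpowers a)]
    simp only [Finset.mem_univ, if_true, Finset.sum_const, Finset.card_univ, nsmul_eq_mul, mul_one]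
    rw [← Nat.card_eq_fintype_card, hcard]
    ring
  have h5 : (p : ℂ)⁻¹ * ((d : ℂ) - (p - 1)) = n := by rw [← h3]; exact hn
  have hp0 : (p : ℂ) ≠ 0 := by exact_mod_cast hp.ne_zero
  have h6 : ((d : ℂ) + 1) = p * (n + 1) := by
    have h7 : (d : ℂ) - (p - 1) = p * n := by
      rw [← h5]; field_simp
    linear_combination h7
  have h7 : d + 1 = p * (n + 1) := by exact_mod_cast h6
  exact ⟨_, h7⟩

/-- If `|G : C(a)| = -1 mod p`, `|P| = p`, all elements of order `p` are conjugate to `a`. -/
theorem isConj_of_dvd {G : Type u} [Group G] [Finite G] {p : ℕ} [hp : Fact p.Prime]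
    (hP : ∀ P : Sylow p G, Nat.card P = p) {a : G} (ha : orderOf a = p) {d : ℕ}
    (hd : Nat.card (centralizer ({a} : Set G)) * d = Nat.card G) (hpd : p ∣ d + 1) {x : G} (hx : orderOf x = p) :
    IsConj a x := by
  classical
  have hcz : Nat.card (zpowers a) = p := by rw [Nat.card_zpowers, ha]
  obtain ⟨Q, hQ⟩ := (IsPGroup.of_card (p := p) (n := 1) (by rw [hcz, pow_one])).exists_le_sylow
  have hQa : (Q : Subgroup G) = zpowers a := by
    refine (Subgroup.eq_of_le_of_card_ge hQ ?_).symm
    have h1 : Nat.card (Q : Subgroup G) = p := hP Q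
    rw [hcz, h1]
  set N := normalizer (zpowers a : Set G) with hN
  set C := centralizer ({a} : Set G) with hC
  have hnorm : ∀ n ∈ N, n * a * n⁻¹ ∈ zpowers a := fun n hn =>
    (Subgroup.mem_normalizer_iff.1 hn a).1 (mem_zpowers a)
  have hCN : C ≤ N := by
    intro g hg
    rw [mem_centralizer_singleton_iff] at hg
    have hgc : Commute g a := hg
    rw [Subgroup.mem_normalizer_iff]
    have key : ∀ k : ℤ, g * a ^ k * g⁻¹ = a ^ k := fun k => by
      rw [(hgc.zpow_right k).eq, mul_inv_cancel_right]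
    intro h
    constructor
    · intro hh
      obtain ⟨k, rfl⟩ := mem_zpowers_iff.1 hh
      rw [key]; exact hh
    · intro hh
      obtain ⟨k, hk⟩ := mem_zpowers_iff.1 hh
      have h1 : h = a ^ k := by
        rw [← key k] at hk
        have h2 : g * h * g⁻¹ = g * a ^ k * g⁻¹ := by rw [hk]
        simpa using h2
      rw [h1]; exact zpow_mem (mem_zpowers a) k
  -- Sylow
  have hsyl : Nat.card (Sylow p G) = N.index := by
    have h1 := Sylow.card_eq_index_normalizer Q
    have h2 : (((Q : Subgroup G) : Set G)) = (zpowers a : Set G) := by rw [hQa]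
    rw [h1, hN]
    exact congrArg (fun S : Set G => (normalizer S).index) h2
  have hmod : N.index ≡ 1 [MOD p] := by rw [← hsyl]; exact card_sylow_modEq_one p G
  -- the map N / C → zpowers a
  set e := (C.subgroupOf N).index with he
  have hcard : Nat.card C * e * N.index = Nat.card G := by
    have h1 := Subgroup.card_mul_index (C.subgroupOf N)
    rw [Nat.card_congr (Subgroup.subgroupOfEquivOfLe hCN).toEquiv] at h1
    rw [h1, Subgroup.card_mul_index]
  have hed : e * N.index = d := by
    have h1 : Nat.card C * (e * N.index) = Nat.card C * d := by rw [← mul_assoc, hcard, hd]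
    exact Nat.eq_of_mul_eq_mul_left Nat.card_pos h1
  have hpe : p ∣ e + 1 := by
    have h1 : e * N.index ≡ e * 1 [MOD p] := hmod.mul_left e
    have h2 : e + 1 ≡ d + 1 [MOD p] := by
      rw [← hed]
      have := h1.symm.add_right 1
      rwa [mul_one] at this
    exact (h2.dvd_iff (dvd_refl p)).2 hpd
  -- injectivity
  let f : N ⧸ (C.subgroupOf N) → {y : G // y ∈ zpowers a ∧ y ≠ 1} := fun q => Quotient.liftOn' q
    (fun n => ⟨(n : G) * a * (n : G)⁻¹, hnorm n n.2, fun h => by
      have h1 : a = 1 := by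
        calc a = (n : G)⁻¹ * ((n : G) * a * (n : G)⁻¹) * n := by group
          _ = 1 := by rw [h]; group
      rw [h1, orderOf_one] at ha
      exact hp.out.one_lt.ne ha⟩)
    (by
      intro m n hmn
      rw [QuotientGroup.leftRel_apply, mem_subgroupOf, hC, mem_centralizer_singleton_iff] at hmn
      apply Subtype.ext
      change (m : G) * a * (m : G)⁻¹ = (n : G) * a * (n : G)⁻¹
      have h1 : (m : G)⁻¹ * n * a = a * ((m : G)⁻¹ * n) := hmn
      calc (m : G) * a * (m : G)⁻¹ = m * (a * ((m : G)⁻¹ * n)) * (n : G)⁻¹ := by group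
        _ = m * ((m : G)⁻¹ * n * a) * (n : G)⁻¹ := by rw [h1]
        _ = _ := by group)
  have hf : Function.Injective f := by
    intro q r
    induction q using QuotientGroup.induction_on with | H m => ?_
    induction r using QuotientGroup.induction_on with | H n => ?_
    intro h
    have h1 : (m : G) * a * (m : G)⁻¹ = (n : G) * a * (n : G)⁻¹ := congrArg Subtype.val h
    rw [QuotientGroup.eq, mem_subgroupOf, hC, mem_centralizer_singleton_iff]
    change (m : G)⁻¹ * n * a = a * ((m : G)⁻¹ * n)
    calc (m : G)⁻¹ * n * a = (m : G)⁻¹ * ((n : G) * a * (n : G)⁻¹) * n := by group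
      _ = (m : G)⁻¹ * ((m : G) * a * (m : G)⁻¹) * n := by rw [h1]
      _ = _ := by group
  have hT : Nat.card {y : G // y ∈ zpowers a ∧ y ≠ 1} = p - 1 := by
    have h1 : Nat.card {y : G // y ∈ zpowers a ∧ y ≠ 1} = Nat.card {y : zpowers a // y ≠ 1} :=
      Nat.card_congr ⟨fun y => ⟨⟨y.1, y.2.1⟩, fun h => y.2.2 (congrArg Subtype.val h)⟩,
        fun y => ⟨y.1.1, y.1.2, fun h => y.2 (Subtype.ext h)⟩, fun _ => rfl, fun _ => rfl⟩
    haveI : Fintype (zpowers a) := Fintype.ofFinite _
    rw [h1, Nat.card_eq_fintype_card, Fintype.card_subtype_compl, Fintype.card_subtype_eq, ← Nat.card_eq_fintype_card,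
      hcz]
  have hle : e ≤ p - 1 := by
    rw [← hT]
    exact Nat.card_le_card_of_injective f hf
  have hpos := hp.out.two_le
  have heq : e = p - 1 := by
    obtain ⟨k, hk⟩ := hpe
    rcases Nat.eq_zero_or_pos k with rfl | hk0
    · omega
    · have : p ≤ p * k := Nat.le_mul_of_pos_right p hk0
      omega
  have hsurj : Function.Surjective f := by
    have h1 : Nat.card (N ⧸ (C.subgroupOf N)) = Nat.card {y : G // y ∈ zpowers a ∧ y ≠ 1} := by
      rw [hT, ← heq]; rfl
    exact ((Nat.bijective_iff_injective_and_card f).2 ⟨hf, h1⟩).2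
  -- conclusion
  have hxp : IsPGroup p (zpowers x) := IsPGroup.of_card (n := 1) (by rw [Nat.card_zpowers, hx, pow_one])
  obtain ⟨R, hR⟩ := hxp.exists_le_sylow
  obtain ⟨g, hg⟩ := MulAction.exists_smul_eq G R Q
  have h2 : g * x * g⁻¹ ∈ zpowers a := by
    rw [← hQa, ← hg]
    exact ⟨x, hR (mem_zpowers x), rfl⟩
  have h3 : g * x * g⁻¹ ≠ 1 := by
    intro h
    have h4 : x = 1 := by
      calc x = g⁻¹ * (g * x * g⁻¹) * g := by group
        _ = 1 := by rw [h]; group
    rw [h4, orderOf_one] at hx
    exact hp.out.one_lt.ne hx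
  obtain ⟨q, hq⟩ := hsurj ⟨_, h2, h3⟩
  induction q using QuotientGroup.induction_on with | H n => ?_
  have h4 : (n : G) * a * (n : G)⁻¹ = g * x * g⁻¹ := congrArg Subtype.val hq
  have h5 : IsConj a (g * x * g⁻¹) := isConj_iff.2 ⟨n, h4⟩
  exact h5.trans (isConj_iff.2 ⟨g⁻¹, by group⟩)

/-- If all elements of order `p` are conjugate to `a`, `|P| = p`, and all `a * a^g` are `p`-elements, `G` is not simple
(or abelian). -/
theorem false_of_all_conj {G : Type u} [Group G] [Finite G] [IsSimpleGroup G] (hna : ¬ IsMulCommutative G) {p : ℕ}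
    [hp : Fact p.Prime] {a : G} (ha : orderOf a = p) (hall : ∀ x : G, PE p x → x = 1 ∨ IsConj a x)
    (hcon : ∀ g : G, PE p (a * (g * a * g⁻¹))) : False := by
  have hmul : ∀ x y : G, PE p x → PE p y → PE p (x * y) := by
    intro x y hx hy
    rcases hall x hx with rfl | h1
    · rwa [one_mul]
    rcases hall y hy with rfl | h2
    · rwa [mul_one]
    obtain ⟨c, rfl⟩ := isConj_iff.1 h1
    obtain ⟨d, rfl⟩ := isConj_iff.1 h2
    have h3 := (hcon (c⁻¹ * d)).conj c
    have h4 : c * (a * (c⁻¹ * d * a * (c⁻¹ * d)⁻¹)) * c⁻¹ = c * a * c⁻¹ * (d * a * d⁻¹) := by group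
    rwa [h4] at h3
  let S : Subgroup G :=
    { carrier := {x | PE p x}
      mul_mem' := fun {x y} hx hy => hmul x y hx hy
      one_mem' := PE.one
      inv_mem' := fun {x} hx => hx.inv }
  have hS : S.Normal := ⟨fun x hx g => PE.conj hx g⟩
  rcases hS.eq_bot_or_eq_top with h | h
  · have h1 : a ∈ S := ⟨1, by rw [ha, pow_one]⟩
    rw [h, mem_bot] at h1
    rw [h1, orderOf_one] at ha
    exact hp.out.one_lt.ne ha
  · -- G is a p-group
    apply hna
    have hG : IsPGroup p G := by
      intro x
      have h1 : x ∈ S := by rw [h]; exact mem_top x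
      obtain ⟨k, hk⟩ := h1
      exact ⟨k, by rw [← hk, pow_orderOf_eq_one]⟩
    haveI : Nontrivial G := inferInstance
    have h1 : (center G) ≠ ⊥ := by
      intro h2
      haveI := hG.center_nontrivial
      rw [Subgroup.nontrivial_iff_ne_bot] at this
      exact this h2
    have h2 : center G = ⊤ := (inferInstance : (center G).Normal).eq_bot_or_eq_top.resolve_left h1
    exact ⟨⟨fun x y => (mem_center_iff.1 (by rw [h2]; exact mem_top y : y ∈ center G) x)⟩⟩

/-- **`pa_cyc` without a bound on the centraliser.** -/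
theorem pa_cyc_full {G : Type u} [Group G] [Finite G] [IsSimpleGroup G] (hna : ¬ IsMulCommutative G) {p : ℕ}
    [hpf : Fact p.Prime] (hp2 : p ≠ 2) (hP : ∀ P : Sylow p G, Nat.card P = p) {a : G} (ha : orderOf a = p) :
    ∃ g : G, ¬ PE p (a * (g * a * g⁻¹)) := by
  classical
  by_contra hcon
  push Not at hcon
  have hp : p.Prime := Fact.out
  haveI := Fintype.ofFinite G
  obtain ⟨M, hM⟩ := Cfsg.Agent.Blocks.ExistsModular.exists_isPModular hp
  obtain ⟨P⟩ : Nonempty (Sylow p G) := inferInstance
  obtain ⟨X, Y, -, -, hXe, -, εX, ε, hX, -⟩ := Cfsg.Agent.S4441.result p M hM hp2 P (hP P) _ rfl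
  have he := two_le_relIndex hna P (hP P)
  rw [← hXe] at he
  obtain ⟨χ, hχX, hχ1⟩ : ∃ χ ∈ X, (χ : G → ℂ) ≠ 1 := by
    by_contra hc
    push Not at hc
    haveI : Finite X := Nat.finite_of_card_ne_zero (by omega)
    haveI : Nontrivial X := Finite.one_lt_card_iff_nontrivial.1 (by omega)
    obtain ⟨x, y, hxy⟩ := exists_pair_ne X
    apply hxy
    apply Subtype.ext
    apply Subtype.ext
    rw [hc x x.2, hc y y.2]
  obtain ⟨hε, -, hval⟩ := hX χ hχX
  obtain ⟨d, hd2, hd⟩ := two_le_degree (commutator_eq_top hna) χ.2 hχ1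
  have hcf := isIrr_isClassFunction χ.2
  have hvalp : ∀ x : G, orderOf x = p → (χ : G → ℂ) x = εX χ := by
    intro x hx
    have h1 : IsPGroup p (zpowers x) := IsPGroup.of_card (n := 1) (by rw [Nat.card_zpowers, hx, pow_one])
    obtain ⟨Q, hQ⟩ := h1.exists_le_sylow
    obtain ⟨g, hg⟩ := MulAction.exists_smul_eq G Q P
    have h2 : g * x * g⁻¹ ∈ (P : Subgroup G) := by
      rw [← hg]
      exact ⟨x, hQ (mem_zpowers x), rfl⟩
    have h3 : g * x * g⁻¹ ≠ 1 := by
      intro h
      have h4 : x = 1 := by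
        calc x = g⁻¹ * (g * x * g⁻¹) * g := by group
          _ = 1 := by rw [h]; group
      rw [h4, orderOf_one] at hx
      exact hp.one_lt.ne hx
    have h4 := hval _ h2 h3 1 (one_mem _) (by
      rw [orderOf_one]; exact fun h => hp.one_lt.ne' (Nat.dvd_one.1 h))
    rw [mul_one, hcf] at h4
    exact h4
  have hexp : ∀ x : G, PE p x → x = 1 ∨ orderOf x = p := by
    rintro x ⟨k, hk⟩
    rcases Nat.lt_or_ge k 2 with h | h
    · interval_cases k
      · left; rw [pow_zero] at hk; exact orderOf_eq_one_iff.1 hk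
      · right; rw [hk, pow_one]
    · exfalso
      have h1 : IsPGroup p (zpowers x) := IsPGroup.of_card (n := k) (by rw [Nat.card_zpowers, hk])
      obtain ⟨Q, hQ⟩ := h1.exists_le_sylow
      have h2 := Subgroup.card_le_of_le hQ
      rw [Nat.card_zpowers, hk] at h2
      have h3 : Nat.card (Q : Subgroup G) = p := hP Q
      rw [h3] at h2
      have h4 : p ^ 2 ≤ p ^ k := Nat.pow_le_pow_right hp.pos h
      have h5 : p < p ^ 2 := by nlinarith [hp.one_lt]
      omega
  set c : ℕ := Nat.card (centralizer ({a} : Set G)) with hc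
  have hcpos : 0 < c := Nat.card_pos
  have havg := Cfsg.Agent.Characters.Central.sum_char_conj_mul χ.2 a a
  have hterm : ∀ g : G, (χ : G → ℂ) (g * a * g⁻¹ * a) = if g * a * g⁻¹ = a⁻¹ then (d : ℂ) else (εX χ : ℂ) := by
    intro g
    split_ifs with h
    · rw [h, inv_mul_cancel, hd]
    · have h1 : PE p (g * a * g⁻¹ * a) := by
        have h2 := (hcon g).conj a⁻¹
        have h3 : a⁻¹ * (a * (g * a * g⁻¹)) * a⁻¹⁻¹ = g * a * g⁻¹ * a := by group
        rwa [h3] at h2
      rcases hexp _ h1 with h2 | h2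
      · exact absurd (eq_inv_of_mul_eq_one_left h2) h
      · exact hvalp _ h2
  rw [Finset.sum_congr rfl (fun g _ => hterm g), Finset.sum_ite, Finset.sum_const, Finset.sum_const,
    hvalp a ha, hd, nsmul_eq_mul, nsmul_eq_mul] at havg
  have hsplit : (Finset.univ.filter fun g : G => g * a * g⁻¹ = a⁻¹).card +
      (Finset.univ.filter fun g : G => ¬ g * a * g⁻¹ = a⁻¹).card = Nat.card G := by
    rw [Finset.card_filter_add_card_filter_not, Finset.card_univ, Nat.card_eq_fintype_card]
  set n₀ := (Finset.univ.filter fun g : G => g * a * g⁻¹ = a⁻¹).card with hn₀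
  set n₁ := (Finset.univ.filter fun g : G => ¬ g * a * g⁻¹ = a⁻¹).card with hn₁
  have hn₀c : n₀ = 0 ∨ n₀ = c := by
    by_cases h : IsConj a a⁻¹
    · right
      have h1 := Cfsg.Agent.Characters.ClassMul.card_fiber_conj a a⁻¹ h
      rw [hn₀, hc, ← h1, Nat.card_eq_fintype_card, Fintype.card_subtype]
    · left
      rw [hn₀, Finset.card_eq_zero, Finset.filter_eq_empty_iff]
      intro g _ hg
      exact h (isConj_iff.2 ⟨g, hg⟩)
  have hd0 : (d : ℂ) ≠ 0 := by exact_mod_cast (by omega : d ≠ 0)
  rw [eq_div_iff hd0] at havg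
  have havg' : ((n₀ : ℤ) * d + n₁ * εX χ) * d = (Nat.card G : ℤ) * εX χ * εX χ := by
    exact_mod_cast havg
  have hG : (Nat.card G : ℤ) = n₀ + n₁ := by rw [← hsplit]; push_cast; ring
  have hGpos : 0 < Nat.card G := Nat.card_pos
  have hd2' : (2 : ℤ) ≤ d := by exact_mod_cast hd2
  have hcpos' : (0 : ℤ) < c := by exact_mod_cast hcpos
  have hn₁0 : (0 : ℤ) ≤ n₁ := Int.natCast_nonneg _
  have hεε : εX χ * εX χ = 1 := by rcases hε with h | h <;> rw [h] <;> norm_num
  rw [mul_assoc (Nat.card G : ℤ), hεε, mul_one, hG] at havg'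
  rcases hn₀c with h0 | h0
  · rw [h0] at havg'
    push_cast at havg'
    have h1 : (n₁ : ℤ) * (εX χ * d - 1) = 0 := by linear_combination havg'
    have hn₁pos : (0 : ℤ) < n₁ := by
      have : n₁ = Nat.card G := by rw [← hsplit, h0, zero_add]
      rw [this]; exact_mod_cast hGpos
    rcases mul_eq_zero.1 h1 with h2 | h2
    · omega
    · rcases hε with h | h <;> rw [h] at h2 <;> omega
  · rw [h0] at havg'
    rcases hε with h | h
    · rw [h] at havg'
      have h1 : (c : ℤ) * (d ^ 2 - 1) + n₁ * (d - 1) = 0 := by linear_combination havg'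
      have h2 : (0 : ℤ) < c * (d ^ 2 - 1) := mul_pos hcpos' (by nlinarith)
      have h3 : (0 : ℤ) ≤ n₁ * (d - 1) := mul_nonneg hn₁0 (by linarith)
      linarith
    · rw [h] at havg'
      have h1 : ((c : ℤ) * d - (c + n₁)) * (d + 1) = 0 := by linear_combination havg'
      have h3 : (c : ℤ) * d = Nat.card G := by
        rcases mul_eq_zero.1 h1 with h2 | h2
        · rw [hG, h0]; linarith
        · omega
      have h4 : c * d = Nat.card G := by exact_mod_cast h3
      have hpd : p ∣ d + 1 := by
        refine dvd_degree hp (isIrr_isCharacter χ.2) ha hd fun x hx hx1 => ?_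
        have h5 : orderOf x = p := by
          have h6 : orderOf x ∣ p := by
            rw [← ha]
            exact orderOf_dvd_of_mem_zpowers hx
          rcases (Nat.dvd_prime hp).1 h6 with h7 | h7
          · exact absurd (orderOf_eq_one_iff.1 h7) hx1
          · exact h7
        rw [hvalp x h5, h]
        norm_num
      have hall : ∀ x : G, PE p x → x = 1 ∨ IsConj a x := fun x hx => by
        rcases hexp x hx with h5 | h5
        · exact Or.inl h5
        · exact Or.inr (isConj_of_dvd hP ha h4 hpd h5)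
      exact false_of_all_conj hna ha hall hcon

/-- the Sylow `p`-subgroups have order `p` if `p ∥ |G|` -/
theorem card_sylow_of_not_sq {G : Type u} [Group G] [Finite G] {p : ℕ} [hp : Fact p.Prime]
    (h1 : p ∣ Nat.card G) (h2 : ¬ p ^ 2 ∣ Nat.card G) (P : Sylow p G) : Nat.card P = p := by
  have h3 := P.card_eq_multiplicity
  have h4 : (Nat.card G).factorization p = 1 := by
    have h5 : 1 ≤ (Nat.card G).factorization p :=
      (hp.out.dvd_iff_one_le_factorization Nat.card_pos.ne').1 h1
    have h6 : ¬ 2 ≤ (Nat.card G).factorization p := fun h =>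
      h2 ((hp.out.pow_dvd_iff_le_factorization Nat.card_pos.ne').2 h)
    omega
  rw [h3, h4, pow_one]

end Cfsg.Agent.H235.AA.Cyc
end
end
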