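import Cfsg.Agent.H235.AA.Row_m3
import Cfsg.Agent.H109.NrOrb_m3
import Cfsg.Agent.H587.NR.He
import Cfsg.Agent.CpAutHe.Row
import Mathlib
import Cfsg.Agent.H48.J3Three
import Cfsg.Agent.H102.AAJtwo
import Cfsg.Agent.CpAutJThree.Row
import Cfsg.Agent.H898.J3Cent
import Cfsg.Agent.H177.AACo3b_m3
import Cfsg.Agent.H813.RadCo1
import Cfsg.Agent.LThreeCo1.Ranks
import Cfsg.Agent.BpSpor.Row.Co1
import Cfsg.Agent.SporRec.Co3.Model
import Cfsg.Agent.BpSpor.Row.Co3
import Cfsg.Agent.S1693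
import Cfsg.Agent.S0249
import Cfsg.Agent.R04.ONThree
import Cfsg.Agent.OddHalf.NI.FrameSp_m3
import Cfsg.Agent.KFacts.ON.Words_m3
import Cfsg.Agent.H866.ONFive
import Cfsg.Agent.H493.RadRows.Ly
import Cfsg.Agent.CpAutLy.Row
import Cfsg.Agent.R10.Close
import Cfsg.Agent.H235.AA.CycFull
import Cfsg.Agent.TypeM.FactsMcL
import Cfsg.Agent.Schreier.CoTwoStab
import Cfsg.Agent.Co2Type.CardCo2
import Cfsg.Agent.KFacts.CoTwo.QuotInst
import Cfsg.Agent.H393.Iso.Co2
import Cfsg.Agent.H149.Sp.Leech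
import Cfsg.Agent.FastGrp
import Cfsg.Agent.Prune
set_option linter.all false

section
prune_inst 0x7ffdfffbfff83ddeffff7e7ffefddffff9fdffffffdffbfb7fedf3ffbfdf6b6ffbe5fbaf7fe6d8ff9ed6e0b430f87b53fbfffeffef6ffc7ffffdfff45ffbffdfffffbf8951d69c341fbe2ffff3f97fee7f3fffffffffffffffffffffffffffffffffffffffff

-- part: H235/AA/Reps
section
prune_inst 0x200000007c221000001800100000006020000000000008012080040200090041a0410001920006000100206000080000001000090010000020000200400000000000000010000000000000000000000000000000000000000000000000000000000000000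
set_option linter.all false
open scoped Cfsg.Agent.FastGrp

/-!
# Representatives of the elements of order `p` for the `AA` problem (helper235)

* `heis_reps` : Sylow subgroup `⟨a, b⟩` extraspecial of order `p ^ 3`;
* `abel_reps` : Sylow subgroup `⟨a, b⟩` elementary abelian of order `p ^ 2`;
* `not_pc` : the certificate.
-/

set_option autoImplicit false

namespace Cfsg.Agent.H235.AA.Reps

open Subgroup Cfsg Cfsg.Agent.H460.AA Cfsg.Agent.H235.AA.Tools
open Cfsg.Agent.H859
open Cfsg.Agent.H478.RadHeis (exists_conj_mem)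

variable {K : Type*} [Group K] {p : ℕ}

/-- **certificate**: `y = x (g x g⁻¹) ≠ 1` has order prime to `p` -/
theorem not_pc {x g : K} {n : ℕ} (h : (x * (g * x * g⁻¹)) ^ n = 1) (h1 : x * (g * x * g⁻¹) ≠ 1)
    (hn : Nat.Coprime p n) : ¬ PC p x := by
  intro hx
  obtain ⟨k, hk⟩ := hx g
  apply h1
  rw [← orderOf_eq_one_iff]
  have h2 := orderOf_dvd_of_pow_eq_one h
  rw [hk] at h2
  rw [hk]
  exact Nat.Coprime.eq_one_of_dvd (Nat.Coprime.pow_left k hn) h2

theorem PC_conj_iff {x : K} (c : K) : PC p (c * x * c⁻¹) ↔ PC p x := by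
  refine ⟨fun h => ?_, fun h => h.conj c⟩
  have h1 := h.conj c⁻¹
  have h2 : c⁻¹ * (c * x * c⁻¹) * c⁻¹⁻¹ = x := by group
  rwa [h2] at h1

theorem exists_mul [hp : Fact p.Prime] {i : ℕ} (hi : ¬ p ∣ i) (k : ℕ) : ∃ m : ℕ, m * i ≡ k [MOD p] := by
  have h0 : (i : ZMod p) ≠ 0 := by rwa [Ne, ZMod.natCast_eq_zero_iff]
  refine ⟨((k : ZMod p) * (i : ZMod p)⁻¹).val, ?_⟩
  rw [← ZMod.natCast_eq_natCast_iff]
  push_cast
  rw [ZMod.natCast_zmod_val, mul_assoc, inv_mul_cancel₀ h0, mul_one]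

section Heis

variable [hp : Fact p.Prime] {a b w : K} (h : Heis.Rel p a b w)
include h

omit hp in
theorem conj_b (i j m : ℕ) : b ^ m * (a ^ i * b ^ j) * (b ^ m)⁻¹ = a ^ i * b ^ j * w ^ (m * i) := by
  have c1 : Commute (w ^ (m * i)) (b ^ j) := (show Commute w b from h.bw.symm).pow_pow _ _
  have c2 : Commute (b ^ m) (b ^ j) := Commute.pow_pow (Commute.refl b) m j
  have c3 : Commute (b ^ m) (w ^ (m * i)) := (show Commute b w from h.bw).pow_pow _ _
  rw [mul_inv_eq_iff_eq_mul]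
  calc b ^ m * (a ^ i * b ^ j) = (b ^ m * a ^ i) * b ^ j := by group
    _ = a ^ i * b ^ m * (w ^ (m * i) * b ^ j) := by rw [h.ba2]; group
    _ = a ^ i * (b ^ m * b ^ j) * w ^ (m * i) := by rw [c1.eq]; group
    _ = a ^ i * b ^ j * (b ^ m * w ^ (m * i)) := by rw [c2.eq]; group
    _ = _ := by rw [c3.eq]; group

omit hp in
theorem conj_a (j m : ℕ) : (a ^ m)⁻¹ * b ^ j * a ^ m = b ^ j * w ^ (j * m) := by
  have := h.ba2 j m
  rw [mul_assoc, this]
  group

theorem PC_form {i j k : ℕ} (hij : ¬ (p ∣ i ∧ p ∣ j)) : PC p (a ^ i * b ^ j * w ^ k) ↔ PC p (a ^ i * b ^ j) := by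
  by_cases hi : p ∣ i
  · have hj : ¬ p ∣ j := fun hj => hij ⟨hi, hj⟩
    have ha : a ^ i = 1 := Heis.pow_eq_one_of h.ap hi
    rw [ha, one_mul]
    obtain ⟨m, hm⟩ := exists_mul hj k
    have h1 := conj_a h j m
    rw [pow_eq_pow_of_modEq (show j * m ≡ k [MOD p] by rw [mul_comm]; exact hm) h.wp] at h1
    rw [← h1]
    have h2 := PC_conj_iff (p := p) (x := b ^ j) (a ^ m)⁻¹
    rwa [inv_inv] at h2
  · obtain ⟨m, hm⟩ := exists_mul hi k
    have h1 := conj_b h i j m
    rw [pow_eq_pow_of_modEq hm h.wp] at h1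
    rw [← h1]
    exact PC_conj_iff _

theorem pc_inv_form (i j : ℕ) (hi : i ≤ p) (hj : j ≤ p) (hij : ¬ (p ∣ i ∧ p ∣ j)) :
    PC p (a ^ i * b ^ j) ↔ PC p (a ^ (p - i) * b ^ (p - j)) := by
  rw [← PC.of_iff]
  have h1 : (a ^ i * b ^ j)⁻¹ = a ^ (p - i) * b ^ (p - j) * w ^ ((p - j) * (p - i)) := by
    have ea : (a ^ i)⁻¹ = a ^ (p - i) := by
      rw [inv_eq_iff_mul_eq_one, ← pow_add, Nat.add_sub_cancel' hi, h.ap]
    have eb : (b ^ j)⁻¹ = b ^ (p - j) := by
      rw [inv_eq_iff_mul_eq_one, ← pow_add, Nat.add_sub_cancel' hj, h.bp]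
    rw [mul_inv_rev, ea, eb, h.ba2]
  rw [h1]
  refine PC_form h fun ⟨h2, h3⟩ => hij ⟨?_, ?_⟩
  · have := (Nat.dvd_sub_iff_right hi (dvd_refl p)).1 h2
    exact this
  · exact (Nat.dvd_sub_iff_right hj (dvd_refl p)).1 h3

/-- **Sylow subgroup extraspecial of order `p ^ 3`** -/
theorem heis_reps [Finite K] (hp2 : p ≠ 2) (hc : ¬ p ^ 4 ∣ Nat.card K)
    (hw : ∀ k, 1 ≤ k → 2 * k < p → ¬ PC p (w ^ k))
    (hb : ∀ j, 1 ≤ j → 2 * j < p → ¬ PC p (b ^ j))
    (hab : ∀ i j, 1 ≤ i → 2 * i < p → j < p → ¬ PC p (a ^ i * b ^ j))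
    {x : K} (hx : orderOf x = p) : ¬ PC p x := by
  intro hP
  have hpo : ∀ k, 2 * k ≠ p := fun k hk => by
    rcases hp.out.eq_two_or_odd with h2 | h2
    · exact hp2 h2
    · omega
  have hi : ¬ p ∣ (Heis.gp h).index := by
    intro h1
    apply hc
    rw [← (Heis.gp h).card_mul_index, Heis.card h, pow_succ]
    exact mul_dvd_mul_left _ h1
  obtain ⟨g, hg⟩ := exists_conj_mem (Heis.isPGroup h) hi (g := x) (by rw [← hx]; exact pow_orderOf_eq_one x)
  have hP' := hP.conj g
  have ho : orderOf (g * x * g⁻¹) = p := by rw [← MulAut.conj_apply, MulEquiv.orderOf_eq, hx]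
  obtain ⟨i, j, k, he⟩ := hg
  rw [Heis.pow_red h.ap, Heis.pow_red h.bp, Heis.pow_red h.wp] at he
  have hpos := hp.out.pos
  have hi' := Nat.mod_lt i hpos
  have hj' := Nat.mod_lt j hpos
  have hk' := Nat.mod_lt k hpos
  generalize i % p = i at he hi'
  generalize j % p = j at he hj'
  generalize k % p = k at he hk'
  rw [he] at hP' ho
  have key : ∀ j, 1 ≤ j → j < p → ¬ PC p (b ^ j) := by
    intro j h1 h2 h3
    rcases lt_or_ge (2 * j) p with h4 | h4
    · exact hb j h1 h4 h3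
    · have h5 : (b ^ j)⁻¹ = b ^ (p - j) := by
        rw [inv_eq_iff_mul_eq_one, ← pow_add, Nat.add_sub_cancel' h2.le, h.bp]
      have h6 := h3.inv
      rw [h5] at h6
      have := hpo j
      exact hb (p - j) (by omega) (by omega) h6
  by_cases hi0 : i = 0
  · subst hi0
    rw [pow_zero, one_mul] at hP' ho
    by_cases hj0 : j = 0
    · subst hj0
      rw [pow_zero, one_mul] at hP' ho
      have hk0 : k ≠ 0 := by
        rintro rfl
        rw [pow_zero, orderOf_one] at ho
        exact hp.out.one_lt.ne ho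
      rcases lt_or_ge (2 * k) p with h4 | h4
      · exact hw k (by omega) h4 hP'
      · have h5 : (w ^ k)⁻¹ = w ^ (p - k) := by
          rw [inv_eq_iff_mul_eq_one, ← pow_add, Nat.add_sub_cancel' hk'.le, h.wp]
        have h6 := hP'.inv
        rw [h5] at h6
        have := hpo k
        exact hw (p - k) (by omega) (by omega) h6
    · have h1 : PC p (a ^ 0 * b ^ j * w ^ k) := by rw [pow_zero, one_mul]; exact hP'
      rw [PC_form h (fun ⟨_, h2⟩ => hj0 (Nat.eq_zero_of_dvd_of_lt h2 hj')), pow_zero, one_mul] at h1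
      exact key j (by omega) hj' h1
  · have hin : ¬ (p ∣ i ∧ p ∣ j) := fun ⟨h2, _⟩ => hi0 (Nat.eq_zero_of_dvd_of_lt h2 hi')
    rw [PC_form h hin] at hP'
    rcases lt_or_ge (2 * i) p with h4 | h4
    · exact hab i j (by omega) h4 hj' hP'
    · have := hpo i
      rw [pc_inv_form h i j hi'.le hj'.le hin] at hP'
      by_cases hj0 : j = 0
      · subst hj0
        rw [Nat.sub_zero, h.bp] at hP'
        have h5 := hab (p - i) 0 (by omega) (by omega) hpos
        rw [pow_zero] at h5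
        exact h5 hP'
      · exact hab (p - i) (p - j) (by omega) (by omega) (by omega) hP'

end Heis

/-- **Sylow subgroup elementary abelian of order `p ^ 2`** -/
theorem abel_reps [Finite K] [hp : Fact p.Prime] {a b : K} (hba : b * a = a * b) (ha : a ^ p = 1) (hb : b ^ p = 1)
    (ha1 : a ≠ 1) (hne : b ∉ zpowers a) (hp2 : p ≠ 2) (hc : ¬ p ^ 3 ∣ Nat.card K)
    (hbj : ∀ j, 1 ≤ j → 2 * j < p → ¬ PC p (b ^ j))
    (hab : ∀ i j, 1 ≤ i → 2 * i < p → j < p → ¬ PC p (a ^ i * b ^ j))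
    {x : K} (hx : orderOf x = p) : ¬ PC p x := by
  intro hP
  have cab : Commute a b := hba.symm
  have hpos := hp.out.pos
  have hpo : ∀ k, 2 * k ≠ p := fun k hk => by
    rcases hp.out.eq_two_or_odd with h2 | h2
    · exact hp2 h2
    · omega
  let Q : Subgroup K :=
    { carrier := {g | ∃ i j : ℕ, g = a ^ i * b ^ j}
      one_mem' := ⟨0, 0, by simp⟩
      mul_mem' := by
        rintro _ _ ⟨i, j, rfl⟩ ⟨i', j', rfl⟩
        refine ⟨i + i', j + j', ?_⟩
        have c : Commute (b ^ j) (a ^ i') := cab.symm.pow_pow _ _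
        calc a ^ i * b ^ j * (a ^ i' * b ^ j') = a ^ i * (b ^ j * a ^ i') * b ^ j' := by group
          _ = a ^ i * a ^ i' * (b ^ j * b ^ j') := by rw [c.eq]; group
          _ = _ := by rw [← pow_add, ← pow_add]
      inv_mem' := by
        rintro _ ⟨i, j, rfl⟩
        obtain ⟨q, hq⟩ : ∃ q, p = q + 1 := ⟨p - 1, by omega⟩
        refine ⟨q * i, q * j, ?_⟩
        rw [inv_eq_iff_mul_eq_one]
        have c : Commute (b ^ j) (a ^ (q * i)) := cab.symm.pow_pow _ _
        calc a ^ i * b ^ j * (a ^ (q * i) * b ^ (q * j)) = a ^ i * (b ^ j * a ^ (q * i)) * b ^ (q * j) := by group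
          _ = a ^ i * a ^ (q * i) * (b ^ j * b ^ (q * j)) := by rw [c.eq]; group
          _ = 1 := by
            rw [← pow_add, ← pow_add, Heis.pow_eq_one_of ha ⟨i, by rw [hq]; ring⟩,
              Heis.pow_eq_one_of hb ⟨j, by rw [hq]; ring⟩, one_mul] }
  have hmem : ∀ g : K, g ∈ Q ↔ ∃ i j : ℕ, g = a ^ i * b ^ j := fun g => Iff.rfl
  have hQ : IsPGroup p Q := by
    rintro ⟨g, i, j, rfl⟩
    refine ⟨1, Subtype.ext ?_⟩
    change (a ^ i * b ^ j) ^ p ^ 1 = 1
    rw [pow_one, (cab.pow_pow i j).mul_pow, ← pow_mul, ← pow_mul, Heis.pow_eq_one_of ha ⟨i, by ring⟩,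
      Heis.pow_eq_one_of hb ⟨j, by ring⟩, one_mul]
  have haQ : a ∈ Q := ⟨1, 0, by simp⟩
  have hbQ : b ∈ Q := ⟨0, 1, by simp⟩
  have hi : ¬ p ∣ Q.index := by
    intro h1
    apply hc
    obtain ⟨n, hn⟩ := IsPGroup.iff_card.1 hQ
    have hn2 : 2 ≤ n := by
      by_contra h3
      have hoa : orderOf a = p := orderOf_eq_prime ha ha1
      have h4 : zpowers a = Q := by
        refine Subgroup.eq_of_le_of_card_ge (by rwa [zpowers_le]) ?_
        rw [Nat.card_zpowers, hoa, hn]
        calc p ^ n ≤ p ^ 1 := Nat.pow_le_pow_right hpos (by omega)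
          _ = p := pow_one p
      exact hne (h4 ▸ hbQ)
    rw [← Q.card_mul_index, hn]
    calc p ^ 3 = p ^ 2 * p := by ring
      _ ∣ p ^ n * Q.index := mul_dvd_mul (pow_dvd_pow p hn2) h1
  obtain ⟨g, hg⟩ := exists_conj_mem hQ hi (g := x) (by rw [← hx]; exact pow_orderOf_eq_one x)
  have hP' := hP.conj g
  have ho : orderOf (g * x * g⁻¹) = p := by rw [← MulAut.conj_apply, MulEquiv.orderOf_eq, hx]
  obtain ⟨i, j, he⟩ := hg
  rw [Heis.pow_red ha, Heis.pow_red hb] at he
  have hi' := Nat.mod_lt i hpos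
  have hj' := Nat.mod_lt j hpos
  generalize i % p = i at he hi'
  generalize j % p = j at he hj'
  rw [he] at hP' ho
  by_cases hi0 : i = 0
  · subst hi0
    rw [pow_zero, one_mul] at hP' ho
    have hj0 : j ≠ 0 := by
      rintro rfl
      rw [pow_zero, orderOf_one] at ho
      exact hp.out.one_lt.ne ho
    rcases lt_or_ge (2 * j) p with h4 | h4
    · exact hbj j (by omega) h4 hP'
    · have h5 : (b ^ j)⁻¹ = b ^ (p - j) := by
        rw [inv_eq_iff_mul_eq_one, ← pow_add, Nat.add_sub_cancel' hj'.le, hb]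
      have h6 := hP'.inv
      rw [h5] at h6
      have := hpo j
      exact hbj (p - j) (by omega) (by omega) h6
  · rcases lt_or_ge (2 * i) p with h4 | h4
    · exact hab i j (by omega) h4 hj' hP'
    · have := hpo i
      have h5 : (a ^ i * b ^ j)⁻¹ = a ^ (p - i) * b ^ (p - j) := by
        rw [inv_eq_iff_mul_eq_one]
        have c : Commute (b ^ j) (a ^ (p - i)) := cab.symm.pow_pow _ _
        calc a ^ i * b ^ j * (a ^ (p - i) * b ^ (p - j)) = a ^ i * (b ^ j * a ^ (p - i)) * b ^ (p - j) := by group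
          _ = a ^ i * a ^ (p - i) * (b ^ j * b ^ (p - j)) := by rw [c.eq]; group
          _ = 1 := by
            rw [← pow_add, ← pow_add, Nat.add_sub_cancel' hi'.le, Nat.add_sub_cancel' hj'.le, ha, hb, one_mul]
      have h6 := hP'.inv
      rw [h5] at h6
      by_cases hj0 : j = 0
      · subst hj0
        rw [Nat.sub_zero, hb] at h6
        have h7 := hab (p - i) 0 (by omega) (by omega) hpos
        rw [pow_zero] at h7
        exact h7 h6
      · exact hab (p - i) (p - j) (by omega) (by omega) (by omega) h6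

end Cfsg.Agent.H235.AA.Reps
end

-- part: H235/AA/He
section
set_option linter.all false
open scoped Cfsg.Agent.FastGrp

/-!
# The `AA` problem for `He` (helper235)

Sylow subgroups by explicit words (helper587's for `p = 5, 7`); for each representative `x` of the elements of order `p`
an element `g` such that `x (g x g⁻¹) ≠ 1` has order prime to `p`.
-/

set_option autoImplicit false
set_option maxRecDepth 100000

namespace Cfsg.Agent.H235.AA.He

open Subgroup Cfsg Cfsg.Agent.H460.AA Cfsg.Agent.H859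
open Cfsg.Spor.He (Gen)
open Cfsg.Agent.SporadicB.HePerm (act wd phi phi_wd_apply)
open Cfsg.Agent.FixBN.HeStab Cfsg.Agent.KFacts.He.Lv Cfsg.Agent.CpAutHe.Cnt
open Cfsg.Agent.H587.NR.He Cfsg.Agent.H235.AA.Tools Cfsg.Agent.H235.AA.Reps

/-- the certificate -/
def certP (p : ℕ) (X g : List Gen) (n : ℕ) : Bool :=
  and (chkB (pw (X ++ (g ++ (X ++ g.reverse))) n) []) (and (Nat.beq (Nat.gcd p n) 1)
    (not (chkB (X ++ (g ++ (X ++ g.reverse))) [])))

theorem not_pc_of_cert {p n : ℕ} {X g : List Gen} (h : certP p X g n = true) : ¬ PC p (wd X) := by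
  unfold certP at h
  simp only [Bool.and_eq_true] at h
  obtain ⟨h1, h2, h3⟩ := h
  have e1 := eq_of_chkB h1
  rw [wd_pw, wd_nil, wd_append, wd_append, wd_append, wd_reverse] at e1
  have e3 : wd (X ++ (g ++ (X ++ g.reverse))) ≠ 1 := by
    rw [← wd_nil]
    refine ne_of_chkB ?_
    simpa using h3
  rw [wd_append, wd_append, wd_append, wd_reverse] at e3
  rw [← mul_assoc (wd g)] at e1 e3
  exact not_pc (g := wd g) e1 e3 (Nat.eq_of_beq_eq_true h2)

/-- first generator of a Sylow 3-subgroup -/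
def A3 : List Gen := [.b, .c, .d, .g, .d, .e, .d, .c, .d, .c, .d, .g, .b, .c, .d, .c, .d, .f, .d, .b, .c, .b, .a]

/-- second generator of a Sylow 3-subgroup -/
def B3 : List Gen := [.d, .e, .c, .d, .c, .d, .c]

/-- the commutator -/
def W3 : List Gen := [.c, .d, .c, .d, .c, .e, .d, .a, .b, .c, .b, .d, .f, .d, .c, .d, .c, .b, .g, .d, .c, .d, .c, .d, .e, .d, .g, .d, .c, .b, .d, .e, .c, .d, .c, .d, .c, .b, .c, .d, .g, .d, .e, .d, .c, .d, .c, .d, .g, .b, .c, .d, .c, .d, .f, .d, .b, .c, .b, .a]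

theorem pc3_w1 : ¬ PC 3 (wd (pw W3 1)) :=
  not_pc_of_cert (g := [.b]) (n := 5) (by decide +kernel)

theorem pc3_b1 : ¬ PC 3 (wd (pw B3 1)) :=
  not_pc_of_cert (g := [.d]) (n := 5) (by decide +kernel)

theorem pc3_1_0 : ¬ PC 3 (wd (pw A3 1 ++ pw B3 0)) :=
  not_pc_of_cert (g := [.a]) (n := 4) (by decide +kernel)

theorem pc3_1_1 : ¬ PC 3 (wd (pw A3 1 ++ pw B3 1)) :=
  not_pc_of_cert (g := [.a]) (n := 7) (by decide +kernel)

theorem pc3_1_2 : ¬ PC 3 (wd (pw A3 1 ++ pw B3 2)) :=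
  not_pc_of_cert (g := [.g]) (n := 4) (by decide +kernel)

theorem pc5_b1 : ¬ PC 5 (wd (pw B5 1)) :=
  not_pc_of_cert (g := [.b]) (n := 17) (by decide +kernel)

theorem pc5_b2 : ¬ PC 5 (wd (pw B5 2)) :=
  not_pc_of_cert (g := [.f]) (n := 2) (by decide +kernel)

theorem pc5_1_0 : ¬ PC 5 (wd (pw A5 1 ++ pw B5 0)) :=
  not_pc_of_cert (g := [.e]) (n := 3) (by decide +kernel)

theorem pc5_1_1 : ¬ PC 5 (wd (pw A5 1 ++ pw B5 1)) :=
  not_pc_of_cert (g := [.f]) (n := 3) (by decide +kernel)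

theorem pc5_1_2 : ¬ PC 5 (wd (pw A5 1 ++ pw B5 2)) :=
  not_pc_of_cert (g := [.f]) (n := 2) (by decide +kernel)

theorem pc5_1_3 : ¬ PC 5 (wd (pw A5 1 ++ pw B5 3)) :=
  not_pc_of_cert (g := [.d]) (n := 3) (by decide +kernel)

theorem pc5_1_4 : ¬ PC 5 (wd (pw A5 1 ++ pw B5 4)) :=
  not_pc_of_cert (g := [.b]) (n := 21) (by decide +kernel)

theorem pc5_2_0 : ¬ PC 5 (wd (pw A5 2 ++ pw B5 0)) :=
  not_pc_of_cert (g := [.b]) (n := 21) (by decide +kernel)

theorem pc5_2_1 : ¬ PC 5 (wd (pw A5 2 ++ pw B5 1)) :=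
  not_pc_of_cert (g := [.f]) (n := 3) (by decide +kernel)

theorem pc5_2_2 : ¬ PC 5 (wd (pw A5 2 ++ pw B5 2)) :=
  not_pc_of_cert (g := [.d]) (n := 3) (by decide +kernel)

theorem pc5_2_3 : ¬ PC 5 (wd (pw A5 2 ++ pw B5 3)) :=
  not_pc_of_cert (g := [.a]) (n := 3) (by decide +kernel)

theorem pc5_2_4 : ¬ PC 5 (wd (pw A5 2 ++ pw B5 4)) :=
  not_pc_of_cert (g := [.b]) (n := 6) (by decide +kernel)

theorem pc7_w1 : ¬ PC 7 (wd (pw W7 1)) :=
  not_pc_of_cert (g := [.d]) (n := 2) (by decide +kernel)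

theorem pc7_w2 : ¬ PC 7 (wd (pw W7 2)) :=
  not_pc_of_cert (g := [.c]) (n := 3) (by decide +kernel)

theorem pc7_w3 : ¬ PC 7 (wd (pw W7 3)) :=
  not_pc_of_cert (g := [.a]) (n := 5) (by decide +kernel)

theorem pc7_b1 : ¬ PC 7 (wd (pw B7 1)) :=
  not_pc_of_cert (g := [.g]) (n := 15) (by decide +kernel)

theorem pc7_b2 : ¬ PC 7 (wd (pw B7 2)) :=
  not_pc_of_cert (g := [.b]) (n := 6) (by decide +kernel)

theorem pc7_b3 : ¬ PC 7 (wd (pw B7 3)) :=
  not_pc_of_cert (g := [.g]) (n := 6) (by decide +kernel)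

theorem pc7_1_0 : ¬ PC 7 (wd (pw A7 1 ++ pw B7 0)) :=
  not_pc_of_cert (g := [.c]) (n := 4) (by decide +kernel)

theorem pc7_1_1 : ¬ PC 7 (wd (pw A7 1 ++ pw B7 1)) :=
  not_pc_of_cert (g := [.b]) (n := 3) (by decide +kernel)

theorem pc7_1_2 : ¬ PC 7 (wd (pw A7 1 ++ pw B7 2)) :=
  not_pc_of_cert (g := [.a]) (n := 17) (by decide +kernel)

theorem pc7_1_3 : ¬ PC 7 (wd (pw A7 1 ++ pw B7 3)) :=
  not_pc_of_cert (g := [.f]) (n := 6) (by decide +kernel)

theorem pc7_1_4 : ¬ PC 7 (wd (pw A7 1 ++ pw B7 4)) :=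
  not_pc_of_cert (g := [.a]) (n := 5) (by decide +kernel)

theorem pc7_1_5 : ¬ PC 7 (wd (pw A7 1 ++ pw B7 5)) :=
  not_pc_of_cert (g := [.b]) (n := 2) (by decide +kernel)

theorem pc7_1_6 : ¬ PC 7 (wd (pw A7 1 ++ pw B7 6)) :=
  not_pc_of_cert (g := [.a]) (n := 6) (by decide +kernel)

theorem pc7_2_0 : ¬ PC 7 (wd (pw A7 2 ++ pw B7 0)) :=
  not_pc_of_cert (g := [.b, .e]) (n := 4) (by decide +kernel)

theorem pc7_2_1 : ¬ PC 7 (wd (pw A7 2 ++ pw B7 1)) :=
  not_pc_of_cert (g := [.f]) (n := 4) (by decide +kernel)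

theorem pc7_2_2 : ¬ PC 7 (wd (pw A7 2 ++ pw B7 2)) :=
  not_pc_of_cert (g := [.b]) (n := 6) (by decide +kernel)

theorem pc7_2_3 : ¬ PC 7 (wd (pw A7 2 ++ pw B7 3)) :=
  not_pc_of_cert (g := [.a]) (n := 5) (by decide +kernel)

theorem pc7_2_4 : ¬ PC 7 (wd (pw A7 2 ++ pw B7 4)) :=
  not_pc_of_cert (g := [.d]) (n := 4) (by decide +kernel)

theorem pc7_2_5 : ¬ PC 7 (wd (pw A7 2 ++ pw B7 5)) :=
  not_pc_of_cert (g := [.a]) (n := 3) (by decide +kernel)

theorem pc7_2_6 : ¬ PC 7 (wd (pw A7 2 ++ pw B7 6)) :=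
  not_pc_of_cert (g := [.f]) (n := 3) (by decide +kernel)

theorem pc7_3_0 : ¬ PC 7 (wd (pw A7 3 ++ pw B7 0)) :=
  not_pc_of_cert (g := [.a]) (n := 4) (by decide +kernel)

theorem pc7_3_1 : ¬ PC 7 (wd (pw A7 3 ++ pw B7 1)) :=
  not_pc_of_cert (g := [.f]) (n := 4) (by decide +kernel)

theorem pc7_3_2 : ¬ PC 7 (wd (pw A7 3 ++ pw B7 2)) :=
  not_pc_of_cert (g := [.a]) (n := 3) (by decide +kernel)

theorem pc7_3_3 : ¬ PC 7 (wd (pw A7 3 ++ pw B7 3)) :=
  not_pc_of_cert (g := [.d]) (n := 3) (by decide +kernel)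

theorem pc7_3_4 : ¬ PC 7 (wd (pw A7 3 ++ pw B7 4)) :=
  not_pc_of_cert (g := [.a]) (n := 3) (by decide +kernel)

theorem pc7_3_5 : ¬ PC 7 (wd (pw A7 3 ++ pw B7 5)) :=
  not_pc_of_cert (g := [.f]) (n := 3) (by decide +kernel)

theorem pc7_3_6 : ¬ PC 7 (wd (pw A7 3 ++ pw B7 6)) :=
  not_pc_of_cert (g := [.a]) (n := 4) (by decide +kernel)

theorem rel3 : Heis.Rel 3 (wd A3) (wd B3) (wd W3) := by
  refine ⟨?_, ?_, ?_, ?_, ?_, ?_, ?_⟩
  · have h1 := eq_of_chkB (show chkB (pw A3 3) [] = true by decide +kernel)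
    rwa [wd_pw, wd_nil] at h1
  · have h1 := eq_of_chkB (show chkB (pw B3 3) [] = true by decide +kernel)
    rwa [wd_pw, wd_nil] at h1
  · have h1 := eq_of_chkB (show chkB (pw W3 3) [] = true by decide +kernel)
    rwa [wd_pw, wd_nil] at h1
  · have h1 := eq_of_chkB (show chkB (A3 ++ W3) (W3 ++ A3) = true by decide +kernel)
    rwa [wd_append, wd_append] at h1
  · have h1 := eq_of_chkB (show chkB (B3 ++ W3) (W3 ++ B3) = true by decide +kernel)
    rwa [wd_append, wd_append] at h1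
  · have h1 := eq_of_chkB (show chkB (B3 ++ A3) (A3 ++ (B3 ++ W3)) = true by decide +kernel)
    rwa [wd_append, wd_append, wd_append, ← mul_assoc] at h1
  · rw [← wd_nil]
    exact ne_of_chkB (by decide +kernel)

theorem np_three : NP 3 Cfsg.Spor.He := by
  have hp : Fact (Nat.Prime 3) := ⟨by norm_num⟩
  intro x hx _ hP
  refine heis_reps rel3 (by norm_num) (by rw [card_he]; norm_num) ?_ ?_ ?_ hx hP
  · intro k h1 h2
    have : k ≤ 1 := by omega
    rw [← wd_pw]
    interval_cases k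
    exacts [pc3_w1]
  · intro k h1 h2
    have : k ≤ 1 := by omega
    rw [← wd_pw]
    interval_cases k
    exacts [pc3_b1]
  · intro i j h1 h2 h3
    have : i ≤ 1 := by omega
    rw [← wd_pw, ← wd_pw, ← wd_append]
    interval_cases i <;> interval_cases j
    exacts [pc3_1_0, pc3_1_1, pc3_1_2]

theorem np_five : NP 5 Cfsg.Spor.He := by
  have hp : Fact (Nat.Prime 5) := ⟨by norm_num⟩
  have r4 : wd A5 ^ 5 = 1 := by
    have h1 := eq_of_chkB (show chkB (pw A5 5) [] = true by decide +kernel)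
    rwa [wd_pw, wd_nil] at h1
  intro x hx _ hP
  refine abel_reps (a := wd A5) (b := wd B5) ?_ r4 ?_ ?_ ?_ (by norm_num) (by rw [card_he]; norm_num) ?_ ?_ hx hP
  · have h1 := eq_of_chkB (show chkB (B5 ++ A5) (A5 ++ B5) = true by decide +kernel)
    rwa [wd_append, wd_append] at h1
  · have h1 := eq_of_chkB (show chkB (pw B5 5) [] = true by decide +kernel)
    rwa [wd_pw, wd_nil] at h1
  · rw [← wd_nil]
    exact ne_of_chkB (by decide +kernel)
  · intro h
    rw [← mem_powers_iff_mem_zpowers] at h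
    obtain ⟨k, hk⟩ := h
    have hk' : wd A5 ^ k = wd B5 := hk
    rw [Heis.pow_red r4] at hk'
    have hk5 : k % 5 < 5 := Nat.mod_lt _ (by norm_num)
    generalize k % 5 = j at hk' hk5
    revert hk'
    rw [← wd_pw]
    apply ne_of_chkB
    interval_cases j <;> decide +kernel
  · intro k h1 h2
    have : k ≤ 2 := by omega
    rw [← wd_pw]
    interval_cases k
    exacts [pc5_b1, pc5_b2]
  · intro i j h1 h2 h3
    have : i ≤ 2 := by omega
    rw [← wd_pw, ← wd_pw, ← wd_append]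
    interval_cases i <;> interval_cases j
    exacts [pc5_1_0, pc5_1_1, pc5_1_2, pc5_1_3, pc5_1_4, pc5_2_0, pc5_2_1, pc5_2_2, pc5_2_3, pc5_2_4]

theorem rel7 : Heis.Rel 7 (wd A7) (wd B7) (wd W7) := by
  refine ⟨?_, ?_, ?_, ?_, ?_, ?_, ?_⟩
  · have h1 := eq_of_chkB (show chkB (pw A7 7) [] = true by decide +kernel)
    rwa [wd_pw, wd_nil] at h1
  · have h1 := eq_of_chkB (show chkB (pw B7 7) [] = true by decide +kernel)
    rwa [wd_pw, wd_nil] at h1
  · have h1 := eq_of_chkB (show chkB (pw W7 7) [] = true by decide +kernel)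
    rwa [wd_pw, wd_nil] at h1
  · have h1 := eq_of_chkB (show chkB (A7 ++ W7) (W7 ++ A7) = true by decide +kernel)
    rwa [wd_append, wd_append] at h1
  · have h1 := eq_of_chkB (show chkB (B7 ++ W7) (W7 ++ B7) = true by decide +kernel)
    rwa [wd_append, wd_append] at h1
  · have h1 := eq_of_chkB (show chkB (B7 ++ A7) (A7 ++ (B7 ++ W7)) = true by decide +kernel)
    rwa [wd_append, wd_append, wd_append, ← mul_assoc] at h1
  · rw [← wd_nil]
    exact ne_of_chkB (by decide +kernel)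

theorem np_seven : NP 7 Cfsg.Spor.He := by
  have hp : Fact (Nat.Prime 7) := ⟨by norm_num⟩
  intro x hx _ hP
  refine heis_reps rel7 (by norm_num) (by rw [card_he]; norm_num) ?_ ?_ ?_ hx hP
  · intro k h1 h2
    have : k ≤ 3 := by omega
    rw [← wd_pw]
    interval_cases k
    exacts [pc7_w1, pc7_w2, pc7_w3]
  · intro k h1 h2
    have : k ≤ 3 := by omega
    rw [← wd_pw]
    interval_cases k
    exacts [pc7_b1, pc7_b2, pc7_b3]
  · intro i j h1 h2 h3
    have : i ≤ 3 := by omega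
    rw [← wd_pw, ← wd_pw, ← wd_append]
    interval_cases i <;> interval_cases j
    exacts [pc7_1_0, pc7_1_1, pc7_1_2, pc7_1_3, pc7_1_4, pc7_1_5, pc7_1_6, pc7_2_0, pc7_2_1, pc7_2_2, pc7_2_3, pc7_2_4, pc7_2_5, pc7_2_6, pc7_3_0, pc7_3_1, pc7_3_2, pc7_3_3, pc7_3_4, pc7_3_5, pc7_3_6]

theorem simple : IsSimpleGroup Cfsg.Spor.He := Cfsg.Agent.S1695.result.1

theorem core {K : Type*} [Group K] [Finite K] (h : Cfsg.Spor.IsoHe K) : Core K := by
  obtain ⟨e⟩ := h
  have hf : Finite Cfsg.Spor.He := Finite.of_equiv K e.toEquiv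
  refine Core.of_equiv e ?_
  have hs := simple
  refine core_of_card (s := 2 ^ 10 * 3 ^ 3 * 5 ^ 2 * 7 ^ 3) (m := 17)
    (by rw [card_he]; norm_num) (Irreducible.squarefree (by norm_num : Nat.Prime 17)) (by norm_num)
    (fun p hp hp2 x hx => Cfsg.Agent.CpAutHe.Row.autInner hp.out hp2 x hx) ?_
  intro p hp hp2 hd
  rcases (Nat.Prime.dvd_mul hp).1 hd with h1 | h1
  · rcases (Nat.Prime.dvd_mul hp).1 h1 with h2 | h2
    · rcases (Nat.Prime.dvd_mul hp).1 h2 with h3 | h3
      · exact absurd ((Nat.prime_dvd_prime_iff_eq hp Nat.prime_two).1 (hp.dvd_of_dvd_pow h3)) hp2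
      · rw [(Nat.prime_dvd_prime_iff_eq hp Nat.prime_three).1 (hp.dvd_of_dvd_pow h3)]
        exact np_three
    · rw [(Nat.prime_dvd_prime_iff_eq hp (by norm_num : Nat.Prime 5)).1 (hp.dvd_of_dvd_pow h2)]
      exact np_five
  · rw [(Nat.prime_dvd_prime_iff_eq hp (by norm_num : Nat.Prime 7)).1 (hp.dvd_of_dvd_pow h1)]
    exact np_seven

end Cfsg.Agent.H235.AA.He
end

-- part: H102/AAJthree_mg
section
prune_inst 0x822100000000000200000000000000000000001000000000000000000000800802002020020a8000000004000000000000000000000000040000000000242020200a004040000802000000000000000000000000000000000000000000000000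
set_option linter.all false
open scoped Cfsg.Agent.FastGrp

-- part: H102/AAThree
section
/-!
# Elements of order 3 in a group of type `3^{2+1+2}` with `Ω₁ = 3³`
-/

set_option autoImplicit false

namespace Cfsg.Agent.H102.AAThree

open Subgroup
open scoped commutatorElement
open Cfsg.Agent.H48.Crit

section
variable {X : Type*} [Group X]

/-- two commuting elements generate the products of their powers -/
theorem mem_closure_pair_comm {x y z : X} (h : x * y = y * x) (hz : z ∈ _root_.Subgroup.closure ({x, y} : Set X)) :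
    ∃ i j : ℤ, z = x ^ i * y ^ j := by
  obtain ⟨i, w, hw, rfl⟩ := mem_closure_insert_comm (S := {y}) (by rintro w rfl; exact h) hz
  rw [← zpowers_eq_closure] at hw
  obtain ⟨j, rfl⟩ := mem_zpowers_iff.1 hw
  exact ⟨i, j, rfl⟩

/-- modulo a normalized subgroup containing the commutator -/
theorem exists_coset {a b : X} {E : Subgroup X} (ha : ∀ s ∈ E, a * s * a⁻¹ ∈ E) (ha' : ∀ s ∈ E, a⁻¹ * s * a ∈ E)
    (hb : ∀ s ∈ E, b * s * b⁻¹ ∈ E) (hb' : ∀ s ∈ E, b⁻¹ * s * b ∈ E) (hab : ⁅a, b⁆ ∈ E) {x : X}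
    (hx : x ∈ _root_.Subgroup.closure ({a, b} : Set X)) : ∃ i j : ℤ, ∃ s ∈ E, x = a ^ i * b ^ j * s := by
  have hN : ∀ {y : X}, (∀ s ∈ E, y * s * y⁻¹ ∈ E) → (∀ s ∈ E, y⁻¹ * s * y ∈ E) → y ∈ normalizer (E : Set X) := by
    intro y h1 h2
    rw [mem_normalizer_iff]
    intro s
    refine ⟨fun hs => h1 s hs, fun hs => ?_⟩
    have h3 := h2 _ hs
    have e : y⁻¹ * (y * s * y⁻¹) * y = s := by group
    rwa [e] at h3
  have haN := hN ha ha'
  have hbN := hN hb hb'
  set N := normalizer (E : Set X) with hNdef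
  have hEN : E ≤ N := le_normalizer
  have hnor : (E.subgroupOf N).Normal := by
    rw [hNdef]; infer_instance
  let π := QuotientGroup.mk' (E.subgroupOf N)
  have hπ : ∀ y : N, π y = 1 ↔ (y : X) ∈ E := fun y => by
    rw [← mem_subgroupOf]
    exact QuotientGroup.eq_one_iff y
  have hcomm : π ⟨a, haN⟩ * π ⟨b, hbN⟩ = π ⟨b, hbN⟩ * π ⟨a, haN⟩ := by
    rw [← commutatorElement_eq_one_iff_mul_comm, ← map_commutatorElement, hπ]
    exact hab
  have h1 : ∃ hxN : x ∈ N, π ⟨x, hxN⟩ ∈ _root_.Subgroup.closure ({π ⟨a, haN⟩, π ⟨b, hbN⟩} : Set (N ⧸ E.subgroupOf N)) := by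
    induction hx using closure_induction with
    | mem y hy =>
      rcases hy with rfl | rfl
      · exact ⟨haN, _root_.Subgroup.subset_closure (by simp)⟩
      · exact ⟨hbN, _root_.Subgroup.subset_closure (by simp)⟩
    | one => exact ⟨one_mem _, by
        have : π ⟨1, one_mem N⟩ = 1 := map_one π
        rw [this]; exact one_mem _⟩
    | mul y z _ _ hy hz =>
      obtain ⟨h1, h2⟩ := hy
      obtain ⟨h3, h4⟩ := hz
      exact ⟨mul_mem h1 h3, by
        have : π ⟨y * z, mul_mem h1 h3⟩ = π ⟨y, h1⟩ * π ⟨z, h3⟩ := rfl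
        rw [this]; exact mul_mem h2 h4⟩
    | inv y _ hy =>
      obtain ⟨h1, h2⟩ := hy
      exact ⟨inv_mem h1, by
        have : π ⟨y⁻¹, inv_mem h1⟩ = (π ⟨y, h1⟩)⁻¹ := rfl
        rw [this]; exact inv_mem h2⟩
  obtain ⟨hxN, h2⟩ := h1
  obtain ⟨i, j, h3⟩ := mem_closure_pair_comm hcomm h2
  refine ⟨i, j, (a ^ i * b ^ j)⁻¹ * x, ?_, by group⟩
  have h4 : π ((⟨a, haN⟩ ^ i * ⟨b, hbN⟩ ^ j)⁻¹ * ⟨x, hxN⟩) = 1 := by
    rw [map_mul, map_inv, map_mul, map_zpow, map_zpow, ← h3, inv_mul_cancel]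
  rw [hπ] at h4
  simpa only [_root_.mul_inv_rev, _root_.Subgroup.coe_mul, _root_.InvMemClass.coe_inv, _root_.SubgroupClass.coe_zpow] using h4

/-- **The elements of order 3 lie in `⟨c, d, e⟩`.** -/
theorem mem_of_cube {a b c d e : X} (hc : ⁅a, b⁆ = c) (hd : ⁅c, a⁆ = d)
    (he : ⁅c, b⁆ = e) (hda : d * a = a * d) (hdb : d * b = b * d) (hea : e * a = a * e) (heb : e * b = b * e)
    (hc3 : c ^ 3 = 1) (ha3 : a ^ 3 ∈ _root_.Subgroup.closure ({c, d, e} : Set X)) (hb3 : b ^ 3 ∈ closure ({c, d, e} : Set X))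
    (hne : ∀ i j : ℕ, i < 3 → j < 3 → ¬ (i = 0 ∧ j = 0) → (a ^ i * b ^ j) ^ 3 ≠ 1) {x : X}
    (hx : x ∈ _root_.Subgroup.closure ({a, b} : Set X)) (hx3 : x ^ 3 = 1) : x ∈ closure ({c, d, e} : Set X) := by
  have hcd : c * d = d * c := by
    rw [← hc, commutatorElement_def]
    have h1 : Commute d a := hda
    have h2 : Commute d b := hdb
    exact (((h1.mul_right h2).mul_right h1.inv_right).mul_right h2.inv_right).symm
  have hce : c * e = e * c := by
    rw [← hc, commutatorElement_def]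
    have h1 : Commute e a := hea
    have h2 : Commute e b := heb
    exact (((h1.mul_right h2).mul_right h1.inv_right).mul_right h2.inv_right).symm
  have hde : d * e = e * d := by
    rw [← hd, commutatorElement_def]
    have h1 : Commute e c := hce.symm
    have h2 : Commute e a := hea
    exact (((h1.mul_right h2).mul_right h1.inv_right).mul_right h2.inv_right).symm
  have hd3 : d ^ 3 = 1 := by
    rw [← comm_zpow_of_comm hd hcd, hc3, commutatorElement_one_left]
  have he3 : e ^ 3 = 1 := by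
    rw [← comm_zpow_of_comm he hce, hc3, commutatorElement_one_left]
  set E := _root_.Subgroup.closure ({c, d, e} : Set X) with hE
  set Z := closure ({d, e} : Set X) with hZ
  have hcE : c ∈ E := _root_.Subgroup.subset_closure (by simp)
  have hdE : d ∈ E := _root_.Subgroup.subset_closure (by simp)
  have heE : e ∈ E := _root_.Subgroup.subset_closure (by simp)
  have hdZ : d ∈ Z := _root_.Subgroup.subset_closure (by simp)
  have heZ : e ∈ Z := _root_.Subgroup.subset_closure (by simp)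
  have hZE : Z ≤ E := by
    rw [hZ, closure_le]
    rintro y (rfl | rfl)
    · exact hdE
    · exact heE
  -- `Z` commutes with everything
  have hZc : ∀ z ∈ Z, z * a = a * z ∧ z * b = b * z ∧ z * c = c * z ∧ z ^ 3 = 1 := by
    intro z hz
    obtain ⟨i, j, rfl⟩ := mem_closure_pair_comm hde hz
    refine ⟨?_, ?_, ?_, ?_⟩
    · exact ((show Commute d a from hda).zpow_left i).mul_left ((show Commute e a from hea).zpow_left j)
    · exact ((show Commute d b from hdb).zpow_left i).mul_left ((show Commute e b from heb).zpow_left j)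
    · exact ((show Commute d c from hcd.symm).zpow_left i).mul_left ((show Commute e c from hce.symm).zpow_left j)
    · have h1 : Commute (d ^ i) (e ^ j) := ((show Commute d e from hde).zpow_left i).zpow_right j
      rw [h1.mul_pow, ← zpow_natCast, ← zpow_natCast, ← zpow_mul, ← zpow_mul, mul_comm i, mul_comm j, zpow_mul, zpow_mul,
        zpow_natCast, zpow_natCast, hd3, he3, one_zpow, one_zpow, one_mul]
  -- the elements of `E`
  have hEf : ∀ s ∈ E, ∃ i : ℤ, ∃ z ∈ Z, s = c ^ i * z := by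
    intro s hs
    obtain ⟨i, y, hy, rfl⟩ := mem_closure_insert_comm (S := {d, e}) (by
      rintro y (rfl | rfl)
      · exact hcd
      · exact hce) hs
    exact ⟨i, y, hy, rfl⟩
  -- the action of `P` on `c`
  have hcP : ∀ g ∈ _root_.Subgroup.closure ({a, b} : Set X), (∃ w ∈ Z, g * c * g⁻¹ = w * c) ∧ (∀ z ∈ Z, g * z = z * g) := by
    intro g hg
    induction hg using closure_induction with
    | mem y hy =>
      rcases hy with rfl | rfl
      · exact ⟨⟨d⁻¹, inv_mem hdZ, by rw [← hd, commutatorElement_def]; group⟩, fun z hz => (hZc z hz).1.symm⟩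
      · exact ⟨⟨e⁻¹, inv_mem heZ, by rw [← he, commutatorElement_def]; group⟩, fun z hz => (hZc z hz).2.1.symm⟩
    | one => exact ⟨⟨1, one_mem _, by group⟩, fun z _ => by rw [one_mul, mul_one]⟩
    | mul y z _ _ hy hz =>
      obtain ⟨⟨w, hw, hy1⟩, hy2⟩ := hy
      obtain ⟨⟨v, hv, hz1⟩, hz2⟩ := hz
      refine ⟨⟨v * w, mul_mem hv hw, ?_⟩, fun u hu => ?_⟩
      · calc y * z * c * (y * z)⁻¹ = y * (z * c * z⁻¹) * y⁻¹ := by group
          _ = (y * v) * c * y⁻¹ := by rw [hz1]; group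
          _ = v * (y * c * y⁻¹) := by rw [hy2 v hv]; group
          _ = v * w * c := by rw [hy1]; group
      · rw [mul_assoc, hz2 u hu, ← mul_assoc, hy2 u hu, mul_assoc]
    | inv y _ hy =>
      obtain ⟨⟨w, hw, hy1⟩, hy2⟩ := hy
      have h2 : ∀ z ∈ Z, y⁻¹ * z = z * y⁻¹ := fun z hz => ((show Commute y z from hy2 z hz).inv_left).eq
      refine ⟨⟨w⁻¹, inv_mem hw, ?_⟩, h2⟩
      have h3 : y * c = w * c * y := by rw [← hy1]; group
      calc y⁻¹ * c * y⁻¹⁻¹ = y⁻¹ * w⁻¹ * (w * c * y) := by group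
        _ = (y⁻¹ * w⁻¹) * (y * c) := by rw [← h3]
        _ = (w⁻¹ * y⁻¹) * (y * c) := by rw [h2 _ (inv_mem hw)]
        _ = w⁻¹ * c := by group
  -- the action of `P` on `E`
  have hEP : ∀ g ∈ _root_.Subgroup.closure ({a, b} : Set X), ∀ s ∈ E, ∃ w ∈ Z, g * s * g⁻¹ = w * s := by
    intro g hg s hs
    obtain ⟨⟨w, hw, h1⟩, h2⟩ := hcP g hg
    obtain ⟨i, z, hz, rfl⟩ := hEf s hs
    refine ⟨w ^ i, zpow_mem hw i, ?_⟩
    have h3 : Commute w c := (hZc w hw).2.2.1
    calc g * (c ^ i * z) * g⁻¹ = (g * c ^ i * g⁻¹) * (g * z * g⁻¹) := by group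
      _ = (g * c * g⁻¹) ^ i * z := by rw [h2 z hz, mul_inv_cancel_right, conj_zpow]
      _ = w ^ i * (c ^ i * z) := by rw [h1, h3.mul_zpow, mul_assoc]
  have hEn : ∀ g ∈ closure ({a, b} : Set X), ∀ s ∈ E, g * s * g⁻¹ ∈ E := by
    intro g hg s hs
    obtain ⟨w, hw, h1⟩ := hEP g hg s hs
    rw [h1]
    exact mul_mem (hZE hw) hs
  have hE3 : ∀ s ∈ E, s ^ 3 = 1 := by
    intro s hs
    obtain ⟨i, z, hz, rfl⟩ := hEf s hs
    have h1 : Commute (c ^ i) z := ((show Commute z c from (hZc z hz).2.2.1).symm).zpow_left i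
    rw [h1.mul_pow, (hZc z hz).2.2.2, mul_one, ← zpow_natCast, ← zpow_mul, mul_comm, zpow_mul, zpow_natCast, hc3,
      one_zpow]
  -- cubes
  have hcube : ∀ g ∈ closure ({a, b} : Set X), ∀ s ∈ E, (g * s) ^ 3 = g ^ 3 := by
    intro g hg s hs
    obtain ⟨w, hw, h1⟩ := hEP g hg s hs
    have h2 := (hcP g hg).2 w hw
    have h3 : w * s = s * w := by
      obtain ⟨i, z, hz, rfl⟩ := hEf s hs
      have h4 : Commute w (c ^ i) := (show Commute w c from (hZc w hw).2.2.1).zpow_right i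
      have h5 : Commute w z := by
        obtain ⟨i, j, rfl⟩ := mem_closure_pair_comm hde hz
        have h6 : Commute w d := by
          obtain ⟨i', j', rfl⟩ := mem_closure_pair_comm hde hw
          exact ((Commute.refl d).zpow_left i').mul_left ((show Commute e d from hde.symm).zpow_left j')
        have h7 : Commute w e := by
          obtain ⟨i', j', rfl⟩ := mem_closure_pair_comm hde hw
          exact ((show Commute d e from hde).zpow_left i').mul_left ((Commute.refl e).zpow_left j')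
        exact (h6.zpow_right i).mul_right (h7.zpow_right j)
      exact h4.mul_right h5
    have h4 : g * s = w * s * g := by rw [← h1]; group
    have hw3 : w * w * w = 1 := by
      have := (hZc w hw).2.2.2
      rwa [pow_succ, pow_two] at this
    have hs3 : s * s * s = 1 := by
      have := hE3 s hs
      rwa [pow_succ, pow_two] at this
    have k2 : g * g * s = w * w * (s * (g * g)) := by
      calc g * g * s = g * (g * s) := by group
        _ = g * (w * s * g) := by rw [h4]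
        _ = (g * w) * s * g := by group
        _ = (w * g) * s * g := by rw [h2]
        _ = w * (g * s) * g := by group
        _ = w * (w * s * g) * g := by rw [h4]
        _ = w * w * (s * (g * g)) := by group
    have k4 : (g * s) * (g * s) = s * s * (g * g) := by
      calc (g * s) * (g * s) = (w * s * g) * (g * s) := congrArg (· * (g * s)) h4
        _ = w * s * (g * g * s) := by group
        _ = w * s * (w * w * (s * (g * g))) := by rw [k2]
        _ = w * (s * w) * w * s * (g * g) := by group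
        _ = w * (w * s) * w * s * (g * g) := by rw [← h3]
        _ = w * w * (s * w) * s * (g * g) := by group
        _ = w * w * (w * s) * s * (g * g) := by rw [← h3]
        _ = (w * w * w) * (s * s * (g * g)) := by group
        _ = s * s * (g * g) := by rw [hw3, one_mul]
    calc (g * s) ^ 3 = (g * s) * (g * s) * (g * s) := by rw [pow_succ, pow_two]
      _ = s * s * (g * g) * (g * s) := by rw [k4]
      _ = s * s * (g * (g * g * s)) := by group
      _ = s * s * (g * (w * w * (s * (g * g)))) := by rw [k2]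
      _ = s * s * ((g * w) * w * s * (g * g)) := by group
      _ = s * s * ((w * g) * w * s * (g * g)) := by rw [h2]
      _ = s * s * (w * (g * w) * s * (g * g)) := by group
      _ = s * s * (w * (w * g) * s * (g * g)) := by rw [h2]
      _ = s * s * (w * w * (g * s) * (g * g)) := by group
      _ = s * s * (w * w * (w * s * g) * (g * g)) := by rw [h4]
      _ = s * s * ((w * w * w) * s * (g * g * g)) := by group
      _ = s * s * s * (g * g * g) := by rw [hw3]; group
      _ = g ^ 3 := by rw [hs3, one_mul, pow_succ, pow_two]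
  have haP : a ∈ closure ({a, b} : Set X) := _root_.Subgroup.subset_closure (by simp)
  have hbP : b ∈ closure ({a, b} : Set X) := _root_.Subgroup.subset_closure (by simp)
  obtain ⟨i, j, s, hs, hxs⟩ := exists_coset (E := E) (hEn a haP)
    (fun s hs => by simpa using hEn a⁻¹ (inv_mem haP) s hs) (hEn b hbP)
    (fun s hs => by simpa using hEn b⁻¹ (inv_mem hbP) s hs) (by rw [hc]; exact hcE) hx
  obtain ⟨i0, i', hi0, hi⟩ : ∃ i0 : ℕ, ∃ i' : ℤ, i0 < 3 ∧ i = i0 + 3 * i' := by
    refine ⟨(i % 3).toNat, i / 3, ?_, ?_⟩ <;> omega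
  obtain ⟨j0, j', hj0, hj⟩ : ∃ j0 : ℕ, ∃ j' : ℤ, j0 < 3 ∧ j = j0 + 3 * j' := by
    refine ⟨(j % 3).toNat, j / 3, ?_, ?_⟩ <;> omega
  obtain ⟨s', hs', hx'⟩ : ∃ s' ∈ E, x = a ^ i0 * b ^ j0 * s' := by
    refine ⟨(b ^ j0)⁻¹ * (a ^ 3) ^ i' * b ^ j0 * ((b ^ 3) ^ j') * s, ?_, ?_⟩
    · refine mul_mem (mul_mem ?_ (zpow_mem hb3 _)) hs
      have := hEn (b ^ j0)⁻¹ (inv_mem (pow_mem hbP _)) _ (zpow_mem ha3 i')
      rwa [inv_inv] at this
    · rw [hxs, hi, hj, zpow_add, zpow_add, zpow_mul, zpow_mul]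
      have e1 : a ^ (3 : ℤ) = a ^ 3 := zpow_natCast a 3
      have e2 : b ^ (3 : ℤ) = b ^ 3 := zpow_natCast b 3
      rw [e1, e2, zpow_natCast, zpow_natCast]
      group
  have h1 : (a ^ i0 * b ^ j0) ^ 3 = 1 := by
    rw [← hcube _ (mul_mem (pow_mem haP _) (pow_mem hbP _)) s' hs', ← hx', hx3]
  by_cases h0 : i0 = 0 ∧ j0 = 0
  · rw [hx', h0.1, h0.2, pow_zero, pow_zero, one_mul, one_mul]
    exact hs'
  · exact absurd h1 (hne i0 j0 hi0 hj0 h0)

end

end Cfsg.Agent.H102.AAThree
end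

-- part: H102/AAJthree
section
/-!
# The `AA` problem for the third Janko group
-/

set_option autoImplicit false

namespace Cfsg.Agent.H102.AAJthree

open Subgroup Cfsg Cfsg.Agent.H459.Rad Cfsg.Agent.H460.AA Cfsg.Agent.H102.AAMath Cfsg.Agent.H102.AAGen
open Cfsg.Agent.H102.AAJtwo Cfsg.Agent.H102.AAThree
open Cfsg.Spor Cfsg.Agent.J3.Core Cfsg.Agent.J3.Tab Cfsg.Agent.J3.Mono Cfsg.Agent.J3.Elts
open Cfsg.Agent.J3.Order Cfsg.Agent.Lib.BitSet
open Cfsg.Agent.H48.J3Three
open scoped commutatorElement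

/-- the word `(a^i b^j)^3` -/
def w3 (i j : ℕ) : List ℕ :=
  (List.replicate i 0 ++ List.replicate j 1) ++ ((List.replicate i 0 ++ List.replicate j 1) ++
    (List.replicate i 0 ++ List.replicate j 1))

theorem k_cube : ((List.range 3).all fun i => (List.range 3).all fun j =>
    (Nat.beq (i + j) 0 || (dif (w3 i j ++ [0]) (0 :: w3 i j) || dif (w3 i j ++ [1]) (1 :: w3 i j)))) = true := by
  decide +kernel

theorem k_cube' {i j : ℕ} (hi : i < 3) (hj : j < 3) (h : ¬ (i = 0 ∧ j = 0)) :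
    (∃ z : F9, (cols (wt (w3 i j ++ [0]))).getD (idx z) 0 ≠ (cols (wt (0 :: w3 i j))).getD (idx z) 0) ∨
    (∃ z : F9, (cols (wt (w3 i j ++ [1]))).getD (idx z) 0 ≠ (cols (wt (1 :: w3 i j))).getD (idx z) 0) := by
  have h1 := List.all_eq_true.1 (List.all_eq_true.1 k_cube i (List.mem_range.2 hi)) j (List.mem_range.2 hj)
  rw [Bool.or_eq_true, Bool.or_eq_true] at h1
  rcases h1 with h1 | h1 | h1
  · exfalso
    have := Nat.eq_of_beq_eq_true h1
    omega
  · exact Or.inl (exists_of_dif h1)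
  · exact Or.inr (exists_of_dif h1)

section model

variable {F : Type*} [Field F] {ω : F} {G : Gens F ω}

theorem cube_ne (H : Good ω) {i j : ℕ} (hi : i < 3) (hj : j < 3) (h : ¬ (i = 0 ∧ j = 0)) :
    (q G 0 ^ i * q G 1 ^ j) ^ 3 ≠ 1 := by
  intro h3
  have h0 : wd G (List.replicate i 0 ++ List.replicate j 1) = lg G 0 ^ i * lg G 1 ^ j := by
    rw [wd_append, wd_replicate, wd_replicate]
  have h1 : wd G (w3 i j) = (lg G 0 ^ i * lg G 1 ^ j) ^ 3 := by
    have h2 : ∀ l : List ℕ, wd G (l ++ (l ++ l)) = wd G l ^ 3 := fun l => by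
      rw [wd_append, wd_append, pow_succ, pow_two, mul_assoc]
    rw [w3, h2, h0]
  have hx : wd G (w3 i j) ∈ center (threeJ3 F ω) := by
    rw [← ker_pr, MonoidHom.mem_ker, h1, map_pow, map_mul, map_pow, map_pow]
    exact h3
  have hcomm := fun x => (mem_center_iff.1 hx (lg G x)).symm
  rcases k_cube' hi hj h with h1 | h1
  · apply wd_ne (G := G) H h1
    rw [wd_append, wd_one, wd_cons]
    exact hcomm 0
  · apply wd_ne (G := G) H h1
    rw [wd_append, wd_one, wd_cons]
    exact hcomm 1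

/-- **A 3-subgroup of index prime to 3 whose elements of order 3 commute.** -/
theorem exists_P [Fintype F] (hF : Fintype.card F = 4) (H : Good ω) : ∃ P : Subgroup (J3 F ω),
    ¬ 3 ∣ P.index ∧ ∀ x ∈ P, ∀ y ∈ P, x ^ 3 = 1 → y ^ 3 = 1 → x * y = y * x := by
  obtain ⟨G⟩ := exists_gens hF H
  have hcard := Cfsg.Agent.J3.Simple.card_J3 hF H
  have hfin : Finite (J3 F ω) := Nat.finite_of_card_ne_zero (by rw [hcard]; norm_num)
  have hab : ⁅q G 0, q G 1⁆ = q G 3 := by
    have h1 := congrArg (pr F ω) (wd_eq (G := G) H k_comm)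
    rw [wd_cons, wd_one, wd_cons, wd_cons, wd_one, map_mul, map_mul, map_mul] at h1
    have h2 : q G 0 * q G 1 = q G 3 * (q G 1 * q G 0) := h1
    rw [commutatorElement_def, h2]; group
  have r3 : ∀ {x y z : ℕ} {s : ℕ} (_ : s < 3)
      (_ : beqL (cols (wt [x, y])) (cols (compT (tS s) (wt [z, y, x]))) = true), ⁅q G x, q G y⁆ = q G z := by
    intro x y z s hs h
    have h1 := pr_eqS (G := G) H hs h
    rw [wd_cons, wd_one, wd_cons, wd_cons, wd_one, map_mul, map_mul, map_mul] at h1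
    have h2 : q G x * q G y = q G z * (q G y * q G x) := h1
    rw [commutatorElement_def, h2]; group
  have cube : ∀ {x : ℕ} {s : ℕ} {l : List ℕ} (_ : s < 3)
      (_ : beqL (cols (wt [x, x, x])) (cols (compT (tS s) (wt l))) = true), q G x ^ 3 = pr F ω (wd G l) := by
    intro x s l hs h
    have h1 := pr_eqS (G := G) H hs h
    rw [← h1, wd_cons, wd_cons, wd_one, map_mul, map_mul, pow_succ, pow_two, mul_assoc]
    rfl
  have hca := r3 (by norm_num) k_ca
  have hcb := r3 (by norm_num) k_cb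
  have hda := q2 (G := G) H (by norm_num) k_da
  have hdb := q2 (G := G) H (by norm_num) k_db
  have hea := q2 (G := G) H (by norm_num) k_ea
  have heb := q2 (G := G) H (by norm_num) k_eb
  have c3 : q G 3 ^ 3 = 1 := by rw [cube (by norm_num) k_c3, wd_nil, map_one]
  have d3 : q G 4 ^ 3 = 1 := by rw [cube (by norm_num) k_d3, wd_nil, map_one]
  have e3 : q G 5 ^ 3 = 1 := by rw [cube (by norm_num) k_e3, wd_nil, map_one]
  have a3 : q G 0 ^ 3 = q G 5 := by rw [cube (by norm_num) k_a3, wd_one]; rfl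
  have b3 : q G 1 ^ 3 = q G 4 * q G 4 := by rw [cube (by norm_num) k_b3, wd_cons, wd_one, map_mul]; rfl
  have ha9 : q G 0 ^ 3 ^ 2 = 1 := by rw [show 3 ^ 2 = 3 * 3 by norm_num, pow_mul, a3, e3]
  have hb9 : q G 1 ^ 3 ^ 2 = 1 := by
    rw [show 3 ^ 2 = 3 * 3 by norm_num, pow_mul, b3, ← pow_two, ← pow_mul, mul_comm, pow_mul, d3, one_pow]
  have hind := independent (G := G) H
  have h35 := Cfsg.Agent.H48.Crit.three_pow_five hab hca hcb hda hdb hea heb c3 ⟨2, ha9⟩ ⟨2, hb9⟩ hind
  have hidx : ¬ 3 ∣ (_root_.Subgroup.closure ({q G 0, q G 1} : Set (J3 F ω))).index :=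
    Cfsg.Agent.H48.Crit.index_not_dvd Nat.prime_three h35 (by rw [hcard]; norm_num)
  refine ⟨_root_.Subgroup.closure ({q G 0, q G 1} : Set (J3 F ω)), hidx, ?_⟩
  -- the elements of order 3
  have hmem : ∀ x ∈ _root_.Subgroup.closure ({q G 0, q G 1} : Set (J3 F ω)), x ^ 3 = 1 →
      x ∈ _root_.Subgroup.closure ({q G 3, q G 4, q G 5} : Set (J3 F ω)) := fun x hx hx3 =>
    mem_of_cube hab hca hcb hda hdb hea heb c3 (by rw [a3]; exact _root_.Subgroup.subset_closure (by simp))
      (by rw [b3]; exact mul_mem (_root_.Subgroup.subset_closure (by simp)) (_root_.Subgroup.subset_closure (by simp)))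
      (fun i j hi hj h => cube_ne H hi hj h) hx hx3
  have hcd : Commute (q G 3) (q G 4) := by
    rw [← hab, commutatorElement_def]
    have h1 : Commute (q G 4) (q G 0) := hda
    have h2 : Commute (q G 4) (q G 1) := hdb
    exact (((h1.mul_right h2).mul_right h1.inv_right).mul_right h2.inv_right).symm
  have hce : Commute (q G 3) (q G 5) := by
    rw [← hab, commutatorElement_def]
    have h1 : Commute (q G 5) (q G 0) := hea
    have h2 : Commute (q G 5) (q G 1) := heb
    exact (((h1.mul_right h2).mul_right h1.inv_right).mul_right h2.inv_right).symm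
  have hde : Commute (q G 4) (q G 5) := by
    rw [← hca, commutatorElement_def]
    have h1 : Commute (q G 5) (q G 3) := hce.symm
    have h2 : Commute (q G 5) (q G 0) := hea
    exact (((h1.mul_right h2).mul_right h1.inv_right).mul_right h2.inv_right).symm
  have hcl : _root_.Subgroup.closure ({q G 3, q G 4, q G 5} : Set (J3 F ω)) ≤
      centralizer ((_root_.Subgroup.closure ({q G 3, q G 4, q G 5} : Set (J3 F ω)) : Subgroup (J3 F ω)) : Set (J3 F ω)) := by
    rw [centralizer_closure, closure_le]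
    rintro x hx
    rw [SetLike.mem_coe, mem_centralizer_iff]
    rintro y hy
    rcases hx with rfl | rfl | rfl <;> rcases hy with rfl | rfl | rfl
    · rfl
    · exact hcd.symm
    · exact hce.symm
    · exact hcd
    · rfl
    · exact hde.symm
    · exact hce
    · exact hde
    · rfl
  intro x hx y hy hx3 hy3
  exact (mem_centralizer_iff.1 (hcl (hmem x hx hx3)) y (hmem y hy hy3)).symm

end model

/-- a conjugate of an element of `p`-power order lies in a subgroup of index prime to `p` -/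
theorem exists_conj_mem {K : Type*} [Group K] [Finite K] {p : ℕ} [hp : Fact p.Prime] {H : Subgroup K}
    (hi : ¬ p ∣ H.index) {a : K} (ha : orderOf a = p) : ∃ g : K, g * a * g⁻¹ ∈ H := by
  have h1 : IsPGroup p (zpowers a) := IsPGroup.of_card (n := 1) (by rw [Nat.card_zpowers, ha, pow_one])
  have h2 : (MulAction.fixedPoints (zpowers a) (K ⧸ H)).Nonempty := by
    refine h1.nonempty_fixed_point_of_prime_not_dvd_card (α := K ⧸ H) ?_
    exact hi
  obtain ⟨y, hy⟩ := h2
  obtain ⟨g, rfl⟩ := QuotientGroup.mk_surjective y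
  refine ⟨g⁻¹, ?_⟩
  have h3 := hy ⟨a, mem_zpowers a⟩
  have h4 : ((a * g : K) : K ⧸ H) = (g : K ⧸ H) := h3
  rw [QuotientGroup.eq] at h4
  have h5 := H.inv_mem h4
  rw [inv_inv]
  have e : ((a * g)⁻¹ * g)⁻¹ = g⁻¹ * a * g := by group
  rwa [e] at h5

theorem orderOf_conj {K : Type*} [Group K] (g a : K) : orderOf (g * a * g⁻¹) = orderOf a :=
  orderOf_injective (MulAut.conj g).toMonoidHom (MulAut.conj g).injective a

open Cfsg.Agent.CpAutJThree in
/-- elements of order 3 of `C(x)`, `x` of order 3 commuting with an involution -/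
theorem false_of_three {K : Type*} [Group K] [Finite K] (h : Spor.IsoJ3 K) {x : K} (hx : orderOf x = 3)
    {t : K} (ht : orderOf t = 2) (htx : t * x = x * t) {a : K} (ha : orderOf a = 3) (hax : a * x = x * a)
    (hR : RC (MulAut.conj a)) : False := by
  obtain ⟨hcard, hM, hone, -⟩ := base h
  have hp2 : Fact (Nat.Prime 2) := ⟨Nat.prime_two⟩
  have hp3 : Fact (Nat.Prime 3) := ⟨Nat.prime_three⟩
  have memC : ∀ a : K, a ∈ centralizer ({x} : Set K) ↔ a * x = x * a := fun a => mem_centralizer_singleton_iff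
  obtain ⟨c0, hc0, ⟨s, hs, hsc⟩, hc0c⟩ := exc h
  obtain ⟨g, hg⟩ := conj_three hM hone hc0 hx hs ht hsc htx
  have hC : Nat.card ↥(centralizer ({x} : Set K)) = 1080 := by
    rw [← card_centralizer_conj g hg]; exact hc0c
  -- the element `a` is not a power of `x`
  have hmodel : ∀ b : K, orderOf b = 3 → b * t = t * b → ¬ RC (MulAut.conj b) := by
    intro b hb hbt hRb
    obtain ⟨-, hct, Q, v, ρ, M⟩ := hM t ht
    obtain ⟨f, hf⟩ := exists_onto M
    have := simple_A5
    refine false_of_mem_onto (S := alternatingGroup (Fin 5)) not_comm_A5 (H := centralizer ({t} : Set K)) ?_ f hf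
        (k := 32) ?_ (p := 3) (by norm_num) hb (mem_centralizer_singleton_iff.2 hbt) hRb
    · intro h5
      rw [h5, Nat.card_congr topEquiv.toEquiv, hcard] at hct
      norm_num at hct
    · rw [hct, card_A5]
  by_cases haz : a ∈ zpowers x
  · obtain ⟨k, hk⟩ := mem_zpowers_iff.1 haz
    refine hmodel a ha ?_ hR
    rw [← hk]
    have h1 : Commute t x := htx
    exact (h1.zpow_right k).symm
  let c : centralizer ({x} : Set K) := ⟨x, (memC x).2 rfl⟩
  have hc3 : orderOf c = 3 := by rw [← hx]; exact orderOf_mk _ _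
  have hcc : ∀ a : centralizer ({x} : Set K), a * c = c * a := fun a => Subtype.ext ((memC a).1 a.2)
  have hZn : (zpowers c).Normal := by
    constructor
    rintro n ⟨k, rfl⟩ g
    refine ⟨k, ?_⟩
    have h1 : Commute g c := hcc g
    have := h1.zpow_right k
    show c ^ k = g * c ^ k * g⁻¹
    rw [this.eq]; group
  have hHD8 := J3Type.Extra.hd8_quotient c hc3 hcc (hD_of_model hM hx)
  have hq : Nat.card (↥(centralizer ({x} : Set K)) ⧸ zpowers c) = 360 := by
    have := card_eq_card_quotient_mul_card_subgroup (zpowers c)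
    rw [hC, Nat.card_zpowers, hc3] at this
    omega
  obtain ⟨s', hs'⟩ := exists_prime_orderOf_dvd_card' (G := ↥(centralizer ({x} : Set K)) ⧸ zpowers c) 2
    (by rw [hq]; norm_num)
  have hsim := J3Type.Extra.isSimple hHD8 hs'
  refine false_of_not_mem hR (H := centralizer ({x} : Set K)) ?_ ((memC a).2 hax) fun hr => haz ?_
  · intro h5
    rw [h5, Nat.card_congr topEquiv.toEquiv, hcard] at hC
    norm_num at hC
  · have h1 := rad_le_ker (S := ↥(centralizer ({x} : Set K)) ⧸ zpowers c)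
      (not_comm_of_card (by rw [hq]; norm_num)) (QuotientGroup.mk' (zpowers c)) (QuotientGroup.mk'_surjective _) hr
    rw [QuotientGroup.ker_mk'] at h1
    obtain ⟨k, hk⟩ := mem_zpowers_iff.1 h1
    exact mem_zpowers_iff.2 ⟨k, congrArg Subtype.val hk⟩

theorem noRC {K : Type*} [Group K] [Finite K] [IsSimpleGroup K] (h : Spor.IsoJ3 K) : NoRC K := by
  obtain ⟨hcard, hM, hone, -⟩ := Cfsg.Agent.CpAutJThree.base h
  have hna : ¬ IsMulCommutative K := not_comm_of_card (by rw [hcard]; norm_num)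
  intro p hp hp2 a ha hR hP
  have hpp := hp.out
  have hd : p ∣ 2 ^ 7 * (3 ^ 5 * (5 * (17 * 19))) := by
    have h1 : p ∣ Nat.card K := ha ▸ _root_.orderOf_dvd_natCard a
    rw [hcard] at h1
    norm_num
    exact h1
  rcases (Nat.Prime.dvd_mul hpp).1 hd with h1 | h1
  · exact hp2 ((Nat.prime_dvd_prime_iff_eq hpp Nat.prime_two).1 (hpp.dvd_of_dvd_pow h1))
  rcases (Nat.Prime.dvd_mul hpp).1 h1 with h1 | h1
  · obtain rfl := (Nat.prime_dvd_prime_iff_eq hpp (by norm_num)).1 (hpp.dvd_of_dvd_pow h1)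
    obtain ⟨P, hPi, hPc⟩ : ∃ P : Subgroup K, ¬ 3 ∣ P.index ∧ ∀ x ∈ P, ∀ y ∈ P, x ^ 3 = 1 → y ^ 3 = 1 →
        x * y = y * x := by
      obtain ⟨F', _, _, ω, hF, hω, ⟨e⟩⟩ := h
      have H := Cfsg.Agent.J3.Core.good_of_card hF hω
      obtain ⟨P, h1, h2⟩ := exists_P hF H
      refine ⟨P.comap e.toMonoidHom, ?_, ?_⟩
      · rwa [index_comap_of_surjective P e.surjective]
      · intro x hx y hy hx3 hy3
        apply e.injective
        rw [map_mul, map_mul]
        exact h2 _ hx _ hy (by rw [← map_pow, hx3, map_one]) (by rw [← map_pow, hy3, map_one])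
    obtain ⟨c0, hc0, ⟨s, hs, hsc⟩, hc0c⟩ := Cfsg.Agent.CpAutJThree.exc h
    obtain ⟨g, hg⟩ := exists_conj_mem hPi ha
    obtain ⟨k, hk⟩ := exists_conj_mem hPi hc0
    have pw : ∀ {y : K}, orderOf y = 3 → y ^ 3 = 1 := fun {y} hy => by rw [← hy, pow_orderOf_eq_one]
    have ha' : orderOf (g * a * g⁻¹) = 3 := by rw [orderOf_conj, ha]
    have hc' : orderOf (k * c0 * k⁻¹) = 3 := by rw [orderOf_conj, hc0]
    refine false_of_three h (x := k * c0 * k⁻¹) hc' (t := k * s * k⁻¹) (by rw [orderOf_conj, hs]) ?_ ha'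
      (hPc _ hg _ hk (pw ha') (pw hc')) (RC_conj hR g)
    calc k * s * k⁻¹ * (k * c0 * k⁻¹) = k * (s * c0) * k⁻¹ := by group
      _ = k * (c0 * s) * k⁻¹ := by rw [hsc]
      _ = k * c0 * k⁻¹ * (k * s * k⁻¹) := by group
  rcases (Nat.Prime.dvd_mul hpp).1 h1 with h1 | h1
  · obtain rfl := (Nat.prime_dvd_prime_iff_eq hpp (by norm_num)).1 h1
    obtain ⟨t, ht⟩ := exists_prime_orderOf_dvd_card' (G := K) 2 (by rw [hcard]; norm_num)
    obtain ⟨-, hct, Q, v, ρ, M⟩ := hM t ht
    obtain ⟨f, hf⟩ := exists_onto M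
    have := simple_A5
    have hidx : (centralizer ({t} : Set K)).index = 26163 := by
      have h1 := (centralizer ({t} : Set K)).card_mul_index
      rw [hct, hcard] at h1
      omega
    refine false_of_onto (S := alternatingGroup (Fin 5)) not_comm_A5 (H := centralizer ({t} : Set K)) ?_ ?_ f hf
        (k := 32) ?_ (p := 5) (by norm_num) ha hR
    · intro h5
      rw [h5, index_top] at hidx
      norm_num at hidx
    · rw [hidx]; norm_num
    · rw [hct, card_A5]
  have hpa : (∀ P : Sylow p K, Nat.card P = p) → Nat.card (centralizer ({a} : Set K)) = p → p ≤ 19 → False := by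
    intro h2 h3 h4
    obtain ⟨g, hg⟩ := Cfsg.Agent.H491.AA.pa_cyc hna hp2 h2 ha (by
      rw [h3, hcard]
      calc p ^ 2 ≤ 19 ^ 2 := Nat.pow_le_pow_left h4 2
        _ ≤ 50232960 := by norm_num)
    exact hg (hP g)
  have hsyl : ¬ p ^ 2 ∣ 50232960 → ∀ P : Sylow p K, Nat.card P = p := by
    intro h2 P
    obtain ⟨n, hn⟩ := (IsPGroup.iff_card).1 P.2
    have h3 : p ^ n ∣ 50232960 := by rw [← hn, ← hcard]; exact card_subgroup_dvd_card _
    have h4 : n < 2 := by
      by_contra h4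
      exact h2 ((pow_dvd_pow p (by omega)).trans h3)
    have h5 : p ∣ Nat.card P := by
      apply P.dvd_card_of_dvd_card
      rw [← ha]
      exact _root_.orderOf_dvd_natCard a
    have h6 : n ≠ 0 := by
      rintro rfl
      rw [hn, pow_zero, Nat.dvd_one] at h5
      exact hpp.one_lt.ne' h5
    have h7 : n = 1 := by omega
    rw [hn, h7, pow_one]
  rcases (Nat.Prime.dvd_mul hpp).1 h1 with h1 | h1
  · obtain rfl := (Nat.prime_dvd_prime_iff_eq hpp (by norm_num)).1 h1
    exact hpa (hsyl (by norm_num)) (Cfsg.Agent.H898.J3Cent.seventeen h ha).1 (by norm_num)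
  · obtain rfl := (Nat.prime_dvd_prime_iff_eq hpp (by norm_num)).1 h1
    exact hpa (hsyl (by norm_num)) (Cfsg.Agent.H898.J3Cent.card_nineteen h ha) (by norm_num)

end Cfsg.Agent.H102.AAJthree
end

-- part: H177/AACo1
section
/-!
# `AA` problem: `Co1` (helper177)

`p = 3, 5`: elements of order `p` commute with involutions, and `H813.RadCo1.false_of_inv`.  `p = 7`: as in
`H813.RadCo1.noRad_seven` (helper813).
-/

set_option autoImplicit false

namespace Cfsg.Agent.H177.AACo1

open Subgroup Cfsg Cfsg.Agent.H177.AARow Cfsg.Agent.H177.AARow2 Cfsg.Agent.H460.AA Cfsg.Agent.H459.Rad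
open Cfsg.Agent.H813.RadCo1
open Cfsg.Agent.LThreeCo1.Ev Cfsg.Agent.LThreeCo1.Class Cfsg.Agent.LThreeCo1.Rel Cfsg.Agent.LThreeCo1.AGrp
open Cfsg.Agent.CoOneType.ClosingFacts (mk_mul mk_inv exists_mk mk_eq_one mk_eq)
open Cfsg.Agent.SporadicA.Co0Mono (signCo0_mul_self signCo0)
open Cfsg.Agent.SporadicA.Co1Simple (allOne)
open Cfsg.Agent.CoOneType.SignFacts (sign_allOne_comm)

/-- the image in `Co1` -/
local notation "mc" => Cfsg.Agent.CoOneType.ClosingFacts.mk

/-- the action of a word on codes -/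
def fw (l : List ℕ) (n : ℕ) : ℕ := l.foldl (fun n g => ln (c g) n) n

theorem exists_word3 (l : List ℕ) (hl : ∀ g ∈ l, cj g = true) :
    ∃ y : Co0, ∀ n : ℕ, y * Ph a (vc n) * y⁻¹ = Ph a (vc (fw l n)) := by
  induction l with
  | nil => exact ⟨1, fun v => by simp [fw]⟩
  | cons g l ih =>
    obtain ⟨y, hy⟩ := ih fun x hx => hl x (List.mem_cons_of_mem _ hx)
    refine ⟨y * e g, fun n => ?_⟩
    change _ = Ph a (vc (fw l (ln (c g) n)))
    rw [← hy, ← cj_vc (hl g List.mem_cons_self) n]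
    group

theorem cube_ph (v : V) : Ph a v ^ 3 = 1 := hA.ph_cube v

theorem mk_inj3 {v w : V} (h : mc (Ph a v) = mc (Ph a w)) : v = w := by
  rcases (mk_eq _ _).1 h with h1 | h1
  · exact ph_inj h1
  · exfalso
    have h2 := cube_ph v
    rw [h1, (show Commute (Ph a w) (signCo0 allOne) from sign_allOne_comm (Ph a w)).mul_pow, cube_ph w, one_mul] at h2
    have h3 : signCo0 allOne ^ 3 = signCo0 allOne := by
      have h4 : signCo0 allOne * signCo0 allOne = 1 := signCo0_mul_self _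
      rw [pow_succ, pow_two, h4, one_mul]
    rw [h3] at h2
    exact Cfsg.Agent.LThreeBX.NoSeven.n_ne h2

/-- an involution commuting with the image of `Ph a (vc n₀)` -/
theorem exists_inv_of_word3 (l : List ℕ) (hl : ∀ g ∈ l, cj g = true) {n₀ n₁ : ℕ}
    (h0 : fw l n₀ = n₀) (h1 : vc (fw l n₁) ≠ vc n₁) (h2 : fw l (fw l n₁) = n₁) :
    ∃ t : Spor.Co1, orderOf t = 2 ∧ mc (Ph a (vc n₀)) * t = t * mc (Ph a (vc n₀)) := by
  obtain ⟨y, hy⟩ := exists_word3 l hl
  have hc : Commute (mc (Ph a (vc n₀))) (mc y) := by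
    have h3 := hy n₀
    rw [h0, mul_inv_eq_iff_eq_mul] at h3
    show mc (Ph a (vc n₀)) * mc y = mc y * mc (Ph a (vc n₀))
    rw [← mk_mul, ← mk_mul, h3]
  have hne : ¬ Commute (mc (Ph a (vc n₁))) (mc y) := by
    intro h3
    apply h1
    apply mk_inj3
    rw [← hy, mk_mul, mk_mul, mk_inv, ← h3.eq, mul_inv_cancel_right]
  have hsq : Commute (mc (Ph a (vc n₁))) (mc y ^ 2) := by
    have h3 : (y * y) * Ph a (vc n₁) * (y * y)⁻¹ = Ph a (vc n₁) := by
      have h4 := hy (fw l n₁)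
      rw [h2, ← hy] at h4
      calc (y * y) * Ph a (vc n₁) * (y * y)⁻¹ = y * (y * Ph a (vc n₁) * y⁻¹) * y⁻¹ := by group
        _ = Ph a (vc n₁) := h4
    rw [mul_inv_eq_iff_eq_mul] at h3
    show mc (Ph a (vc n₁)) * mc y ^ 2 = mc y ^ 2 * mc (Ph a (vc n₁))
    rw [pow_two, ← mk_mul, ← mk_mul, ← mk_mul, h3]
  have hev : 2 ∣ orderOf (mc y) := by
    by_contra ho
    apply hne
    have h3 : (mc y ^ 2) ^ ((orderOf (mc y) + 1) / 2) = mc y := by
      rw [← pow_mul, show 2 * ((orderOf (mc y) + 1) / 2) = orderOf (mc y) + 1 by omega, pow_succ, pow_orderOf_eq_one,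
        one_mul]
    rw [← h3]
    exact hsq.pow_right _
  obtain ⟨m, hm⟩ := hev
  have hpos : 0 < orderOf (mc y) := orderOf_pos _
  refine ⟨mc y ^ m, ?_, (hc.pow_right m).eq⟩
  rw [orderOf_pow' _ (by omega), hm, Nat.gcd_mul_left_left, Nat.mul_div_cancel _ (by omega)]

/-- elements commuting up to conjugation -/
theorem inv_of_conj {x y g : Spor.Co1} (hg : g * x * g⁻¹ = y) (h : ∃ t : Spor.Co1, orderOf t = 2 ∧ y * t = t * y) :
    ∃ t : Spor.Co1, orderOf t = 2 ∧ x * t = t * x := by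
  obtain ⟨t, ht, hyt⟩ := h
  subst hg
  refine ⟨g⁻¹ * t * g⁻¹⁻¹, by rw [← MulAut.conj_apply, MulEquiv.orderOf_eq, ht], ?_⟩
  calc x * (g⁻¹ * t * g⁻¹⁻¹) = g⁻¹ * ((g * x * g⁻¹) * t) * g := by group
    _ = g⁻¹ * (t * (g * x * g⁻¹)) * g := by rw [hyt]
    _ = g⁻¹ * t * g⁻¹⁻¹ * x := by group

/-- `e 8` commutes with `e 10`, which inverts `A` -/
theorem inv_e8 : ∃ t : Spor.Co1, orderOf t = 2 ∧ mc (e 8) * t = t * mc (e 8) := by
  have hc : Commute (mc (e 8)) (mc (e 10)) := by
    show mc (e 8) * mc (e 10) = mc (e 10) * mc (e 8)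
    rw [← mk_mul, ← mk_mul, kb.2.2.1]
  have h10 : mc (e 10) * mc (Ph a (vc 1)) * (mc (e 10))⁻¹ = mc (Ph a (-vc 1)) := by
    rw [← mk_inv, ← mk_mul, ← mk_mul, t_inv]
  have hne : ¬ Commute (mc (Ph a (vc 1))) (mc (e 10)) := by
    intro h3
    rw [← h3.eq, mul_inv_cancel_right] at h10
    have h4 := mk_inj3 h10
    revert h4
    decide +kernel
  have hsq : Commute (mc (Ph a (vc 1))) (mc (e 10) ^ 2) := by
    have h3 : e 10 * (e 10 * Ph a (vc 1) * (e 10)⁻¹) * (e 10)⁻¹ = Ph a (vc 1) := by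
      rw [t_inv, t_inv, neg_neg]
    have h4 : (e 10 * e 10) * Ph a (vc 1) = Ph a (vc 1) * (e 10 * e 10) := by
      calc (e 10 * e 10) * Ph a (vc 1) = (e 10 * (e 10 * Ph a (vc 1) * (e 10)⁻¹) * (e 10)⁻¹) * (e 10 * e 10) := by group
        _ = _ := by rw [h3]
    show mc (Ph a (vc 1)) * mc (e 10) ^ 2 = mc (e 10) ^ 2 * mc (Ph a (vc 1))
    rw [pow_two, ← mk_mul, ← mk_mul, ← mk_mul, h4]
  have hev : 2 ∣ orderOf (mc (e 10)) := by
    by_contra ho
    apply hne
    have h3 : (mc (e 10) ^ 2) ^ ((orderOf (mc (e 10)) + 1) / 2) = mc (e 10) := by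
      rw [← pow_mul, show 2 * ((orderOf (mc (e 10)) + 1) / 2) = orderOf (mc (e 10)) + 1 by omega, pow_succ,
        pow_orderOf_eq_one, one_mul]
    rw [← h3]
    exact hsq.pow_right _
  obtain ⟨m, hm⟩ := hev
  have hpos : 0 < orderOf (mc (e 10)) := orderOf_pos _
  refine ⟨mc (e 10) ^ m, ?_, (hc.pow_right m).eq⟩
  rw [orderOf_pow' _ (by omega), hm, Nat.gcd_mul_left_left, Nat.mul_div_cancel _ (by omega)]

/-- `e 8` and `e 29` are conjugate -/
theorem conj_e29 : e 27 * e 8 * (e 27)⁻¹ = e 29 := by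
  have h := eq_of_eqB rep k_27
  have hw : wd 0 = [] := by decide +kernel
  rw [hw] at h
  simp only [List.nil_append, List.cons_append, List.map_cons, List.map_nil, List.prod_cons, List.prod_nil, mul_one] at h
  rw [h]
  group

/-- **elements of order three commute with involutions** -/
theorem exists_inv_three {x : Spor.Co1} (hx : orderOf x = 3) : ∃ t : Spor.Co1, orderOf t = 2 ∧ x * t = t * x := by
  obtain ⟨c, hc, g, hg⟩ := Cfsg.Agent.LThreeCo1.Ranks.classes hx
  refine inv_of_conj hg ?_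
  have hcj : ∀ g, g = 7 ∨ g = 8 ∨ g = 9 ∨ g = 10 ∨ g = 11 → cj g = true := by
    rintro g (rfl | rfl | rfl | rfl | rfl)
    · exact k_7
    · exact k_8
    · exact k_9
    · exact k_10
    · exact k_11
  rcases hc with rfl | rfl | rfl | rfl
  · exact exists_inv_of_word3 [8, 7, 7, 11, 7, 11, 8, 8, 8, 7, 7, 11, 7, 11, 8, 8] (n₀ := 1) (n₁ := 3)
      (fun g hg => hcj g (by revert g; decide)) (by decide +kernel) (by decide +kernel) (by decide +kernel)
  · exact exists_inv_of_word3 [9, 9, 11, 9, 11, 10, 8, 8, 7, 7, 8, 8] (n₀ := 79) (n₁ := 1)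
      (fun g hg => hcj g (by revert g; decide)) (by decide +kernel) (by decide +kernel) (by decide +kernel)
  · refine inv_of_conj (g := mc (e 27)⁻¹) (y := mc (e 8)) ?_ inv_e8
    change mc (e 27)⁻¹ * mc (e 29) * (mc (e 27)⁻¹)⁻¹ = mc (e 8)
    rw [← mk_inv, ← mk_mul, ← mk_mul, ← conj_e29]
    congr 1
    group
  · exact exists_inv_of_word3 [11, 7, 9, 11, 9, 9, 8, 8] (n₀ := 4) (n₁ := 9)
      (fun g hg => hcj g (by revert g; decide)) (by decide +kernel) (by decide +kernel) (by decide +kernel)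

theorem three : NoA 3 Spor.Co1 := by
  intro x hx h _
  obtain ⟨t, ht, hxt⟩ := exists_inv_three hx
  exact false_of_inv Nat.prime_three (by norm_num) hx h ht hxt

theorem five : NoA 5 Spor.Co1 := by
  intro x hx h _
  obtain ⟨t, ht, hxt⟩ := exists_inv_five hx
  exact false_of_inv Nat.prime_five (by norm_num) hx h ht hxt

open Cfsg.Agent.H813.CoSevenMain Cfsg.Agent.H839.Rad in
/-- as `noRad_seven` of helper813 -/
theorem seven : NoA 7 Spor.Co1 := by
  intro x hx h _
  have hp : Nat.Prime 7 := by norm_num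
  have : Fact (Nat.Prime 7) := ⟨hp⟩
  -- a conjugate commutes with `pp`
  obtain ⟨x', hx', h', hc⟩ : ∃ x' : Spor.Co1, orderOf x' = 7 ∧ RC (MulAut.conj x') ∧ x' * pp = pp * x' := by
    have h1 : IsPGroup 7 ↥(zpowers x) := IsPGroup.of_card (n := 1) (by rw [Nat.card_zpowers, hx, pow_one])
    have h2 : IsPGroup 7 ↥(zpowers pp) := IsPGroup.of_card (n := 1) (by rw [Nat.card_zpowers, order_pp, pow_one])
    obtain ⟨P, hP⟩ := h1.exists_le_sylow
    obtain ⟨P', hP'⟩ := h2.exists_le_sylow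
    obtain ⟨g, hg⟩ := MulAction.exists_smul_eq Spor.Co1 P P'
    have h3 : g * x * g⁻¹ ∈ (P' : Subgroup Spor.Co1) := by
      rw [← hg, Sylow.coe_subgroup_smul]
      exact smul_mem_pointwise_smul x (MulAut.conj g) _ (hP (mem_zpowers x))
    refine ⟨g * x * g⁻¹, by rw [← MulAut.conj_apply, MulEquiv.orderOf_eq, hx], rc_conj h g, ?_⟩
    have h4 : Nat.card ↥(P' : Subgroup Spor.Co1) ∣ 7 ^ 2 := by
      obtain ⟨n, hn⟩ := IsPGroup.iff_card.1 P'.isPGroup'
      have h5 : 7 ^ n ∣ Nat.card Spor.Co1 := hn ▸ card_subgroup_dvd_card _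
      rw [Cfsg.Agent.S0399.result.2] at h5
      have h6 : n ≤ 2 := by
        by_contra h7
        have h8 : 7 ^ 3 ∣ 4157776806543360000 := (pow_dvd_pow 7 (by omega : 3 ≤ n)).trans h5
        revert h8
        norm_num
      rw [hn]
      exact pow_dvd_pow 7 h6
    have h5 := Cfsg.Agent.H813.CoSevenCard.comm_of_le hp h4 ⟨_, h3⟩ ⟨pp, hP' (mem_zpowers pp)⟩
    exact congrArg Subtype.val h5
  -- it centralizes `BB`
  have hBt : BB ≠ ⊤ := by
    intro h1
    have h2 := card_BB
    rw [h1, Subgroup.card_top, Cfsg.Agent.S0399.result.2] at h2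
    norm_num at h2
  have hcm : ∀ m ∈ BB, MulAut.conj x' m ∈ BB := fun m hm =>
    conj_mem_of_card BB_le BB_center (by rw [order_pp, card_BB]; exact card_cent_pp) hc hm
  have hrad : solvableRadical ↥BB = ⊥ := by
    refine rad_eq_bot_of_simple fun h1 => BB_not_comm ⟨⟨IsSimpleGroup.comm_iff_isSolvable.2 h1⟩⟩
  obtain ⟨t, ht⟩ := exists_prime_orderOf_dvd_card' 2 (show 2 ∣ Nat.card ↥BB by rw [card_BB]; norm_num)
  have h2 := h'.eq_of_rad_eq_bot hBt hcm hrad t.2
  rw [MulAut.conj_apply, mul_inv_eq_iff_eq_mul] at h2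
  exact false_of_inv hp (by norm_num) hx' h' (t := t) (by rw [Subgroup.orderOf_coe, ht]) h2

theorem core_co1 {K : Type*} [Group K] (h : Spor.IsoCo1 K) : Core K := by
  have D := Cfsg.Agent.BpSpor.Row.dat_co1 h
  have hf : Finite K := Nat.finite_of_card_ne_zero (by rw [D.card]; norm_num)
  have e : K ≃* Spor.Co1 := h.some
  have hs := D.simple
  have hna := Cfsg.Agent.H235.AA.Tools.not_comm_of_card (K := K) (by rw [D.card]; norm_num)
  refine core_of_dat D (l := [(2, 21), (3, 9), (5, 4), (7, 2), (11, 1), (13, 1), (23, 1)])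
    (by decide +kernel) (by norm_num) (fun x hx hx2 hp => ?_)
  have hpf : Fact x.1.Prime := ⟨hp⟩
  simp only [List.mem_cons, List.not_mem_nil, or_false] at hx
  rcases hx with rfl | rfl | rfl | rfl | rfl | rfl | rfl
  · exact absurd rfl hx2
  · exact three.of_equiv e
  · exact five.of_equiv e
  · exact seven.of_equiv e
  · exact Cfsg.Agent.H235.AA.Tools.NP.of_not_sq hna hx2 (by rw [D.card]; norm_num)
  · exact Cfsg.Agent.H235.AA.Tools.NP.of_not_sq hna hx2 (by rw [D.card]; norm_num)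
  · exact Cfsg.Agent.H235.AA.Tools.NP.of_not_sq hna hx2 (by rw [D.card]; norm_num)

end Cfsg.Agent.H177.AACo1
end

private theorem dce_7eb98e695940 : _root_.True := by
  try have : _root_.True := by simp only [_root_.Cfsg.Agent.H177.AACo1.fw.eq_1]
  try have : _root_.True := by simp only [_root_.Cfsg.Agent.H102.AAJthree.w3.eq_1]
  exact _root_.True.intro
end

-- part: H177/AACo3
section
prune_inst 0x200040004c2210000818001022000060200000020040080020c0040208480040a004080010700412906088d0400200400010010000100000000008000000000000034242923cac04150000806801180c00000000000000000000000000000000000000000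
set_option linter.all false
open scoped Cfsg.Agent.FastGrp

/-!
# `AA` problem: `Co3` (helper177)
-/

set_option autoImplicit false

namespace Cfsg.Agent.H177.AACo3

open Subgroup Cfsg Cfsg.Agent.H177.AARow Cfsg.Agent.H460.AA Cfsg.Agent.H459.Rad Cfsg.Agent.H177.AACo3b
open Cfsg.Agent.SporadicStructure.Co0Base
open Cfsg.Agent.SporRec.Co3.Chain (G3)

theorem hu : dt Spor.leechV Spor.leechV = 48 := by
  unfold dt dotInt
  rw [Fintype.sum_option]
  decide

theorem fix (g : G3) : (g : Co0) • Spor.leechV = Spor.leechV := g.2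

theorem card_G3 : Nat.card G3 = 495766656000 := Cfsg.Agent.SporRec.Co3.Chain.isCo3_G3.2

theorem finG3 : Finite G3 := Nat.finite_of_card_ne_zero (by rw [card_G3]; norm_num)

/-- stabilisers in `G3` of vectors of the configuration are simple -/
theorem stab {x : leechLattice} (hx : x ∈ X Spor.leechV) :
    IsSimpleGroup ↥(MulAction.stabilizer G3 x) ∧ Nat.card ↥(MulAction.stabilizer G3 x) = 898128000 := by
  have h1 := Cfsg.Agent.S0404.result x (Spor.leechV - x) (by rw [← dt_self]; exact hx.1)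
    (by rw [← dt_self]; exact hx.2) (by
      change dt x (Spor.leechV - x) = -8
      rw [dt_sub_right, dt_comm, X_dot hu hx, hx.1]
      norm_num)
  have e : ↥(MulAction.stabilizer G3 x) ≃* ↥((MulAction.stabilizer G3 x).map G3.subtype) :=
    Subgroup.equivMapOfInjective _ _ Subtype.val_injective
  have h2 : (MulAction.stabilizer G3 x).map G3.subtype =
      MulAction.stabilizer Co0 x ⊓ MulAction.stabilizer Co0 (Spor.leechV - x) := by
    ext g
    constructor
    · rintro ⟨k, hk, rfl⟩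
      have h3 : (k : Co0) • x = x := hk
      refine ⟨h3, ?_⟩
      change (k : Co0) • (Spor.leechV - x) = Spor.leechV - x
      rw [co0_smul_sub, fix k, h3]
    · rintro ⟨h3, h4⟩
      have h3' : g • x = x := h3
      have h4' : g • (Spor.leechV - x) = Spor.leechV - x := h4
      rw [co0_smul_sub, h3'] at h4'
      have h5 : g • Spor.leechV = Spor.leechV := by
        have := congrArg (fun z => z + x) h4'
        simpa using this
      exact ⟨⟨g, h5⟩, h3, rfl⟩
  rw [h2] at e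
  have := h1.1
  exact ⟨(MulEquiv.isSimpleGroup_congr e).2 h1.1, by rw [Nat.card_congr e.toEquiv]; exact h1.2⟩

/-- transitivity on pairs with inner product `16` -/
theorem trans {x y x' y' : leechLattice} (hx : x ∈ X Spor.leechV) (hy : y ∈ X Spor.leechV) (hxy : dt x y = 16)
    (hx' : x' ∈ X Spor.leechV) (hy' : y' ∈ X Spor.leechV) (hxy' : dt x' y' = 16) : ∃ g : G3, g • x = x' ∧ g • y = y' := by
  have hn : sqNorm (Spor.leechV : GolayPt → ℤ) = 48 := by rw [← dt_self]; exact hu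
  obtain ⟨g, hg1, hg2⟩ := Cfsg.Agent.S1579.result Spor.leechV x x' hn (by rw [X_eq] at hx; exact hx)
    (by rw [X_eq] at hx'; exact hx')
  have hgy : g • y ∈ X Spor.leechV := by
    refine ⟨by rw [dt_smul]; exact hy.1, ?_⟩
    have : Spor.leechV - g • y = g • (Spor.leechV - y) := by rw [co0_smul_sub, hg1]
    rw [this, dt_smul]
    exact hy.2
  have h1 : dt x' (g • y) = 16 := by rw [← hg2, dt_smul]; exact hxy
  have hgy' := hgy
  have hy2 := hy'
  rw [X_eq] at hgy' hy2
  obtain ⟨k, hk1, hk2, hk3⟩ := (Cfsg.Agent.S1580.result Spor.leechV x' hn (by rw [X_eq] at hx'; exact hx')).2 (g • y)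
    ⟨hgy'.1, hgy'.2, h1⟩ y' ⟨hy2.1, hy2.2, hxy'⟩
  refine ⟨⟨k * g, by change (k * g) • Spor.leechV = Spor.leechV; rw [mul_smul, hg1, hk1]⟩, ?_, ?_⟩
  · change (k * g) • x = x'
    rw [mul_smul, hg2, hk2]
  · change (k * g) • y = y'
    rw [mul_smul, hk3]

theorem mem_X (g : G3) {x : leechLattice} (hx : x ∈ X Spor.leechV) : g • x ∈ X Spor.leechV := by
  refine ⟨?_, ?_⟩
  · change dt ((g : Co0) • x) ((g : Co0) • x) = 32
    rw [dt_smul]; exact hx.1
  · have : Spor.leechV - g • x = (g : Co0) • (Spor.leechV - x) := by rw [co0_smul_sub, fix]; rfl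
    rw [this, dt_smul]
    exact hx.2

/-- a point of an orbit of odd length -/
theorem fixed_of_sq {G α : Type*} [Group G] [MulAction G α] {g : G} (ho : Odd (orderOf g)) {x : α} (h : g • g • x = x) :
    g • x = x := by
  obtain ⟨k, hk⟩ := ho
  have h1 : g ^ (2 * k) • x = x := by
    rw [pow_mul]
    clear hk
    induction k with
    | zero => simp
    | succ k ih => rw [pow_succ, mul_smul, pow_two, mul_smul, h, ← pow_two, ih]
  have h2 : g ^ (2 * k + 1) = 1 := by rw [← hk, pow_orderOf_eq_one]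
  rw [pow_succ', ] at h2
  calc g • x = g • (g ^ (2 * k) • x) := by rw [h1]
    _ = (g * g ^ (2 * k)) • x := (mul_smul _ _ _).symm
    _ = x := by rw [h2, one_smul]

/-- **all odd primes at once** -/
theorem noA {p : ℕ} (hp : p.Prime) (hp2 : p ≠ 2) : NoA p G3 := by
  have hf : Finite G3 := finG3
  have hpf : Fact p.Prime := ⟨hp⟩
  intro a ha hR hP
  have hodd : Odd (orderOf a) := by rw [ha]; exact hp.odd_of_ne_two hp2
  -- no fixed vector
  have hfix : ∀ x ∈ X Spor.leechV, a • x ≠ x := by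
    intro x hx h
    obtain ⟨h1, h2⟩ := stab hx
    have hH : MulAction.stabilizer G3 x ≠ ⊤ := by
      intro ht
      rw [ht, Subgroup.card_top, card_G3] at h2
      norm_num at h2
    refine false_of_mem (a := a) ?_ hR hH (show a • x = x from h) ?_
    · rintro rfl
      rw [orderOf_one] at ha
      exact hp.one_lt.ne ha
    · refine rad_eq_bot_of_simple (Cfsg.Agent.H177.AARow2.not_solvable_of_card ?_)
      rw [h2]
      norm_num
  have hcase : ∀ x ∈ X Spor.leechV, dt x (a • x) = 16 ∨ dt x (a • x) = 8 := by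
    intro x hx
    rcases X_cases hu hx (mem_X a hx) with h | h | h | h
    · exact absurd h.symm (hfix x hx)
    · exfalso
      refine hfix x hx (fixed_of_sq hodd ?_)
      rw [h]
      have h3 : a • (Spor.leechV - x) = (a : Co0) • (Spor.leechV - x) := rfl
      rw [h3, co0_smul_sub, fix]
      have h4 : (a : Co0) • x = Spor.leechV - x := h
      rw [h4, sub_sub_cancel]
    · exact Or.inl h
    · exact Or.inr h
  by_cases hall : ∀ x ∈ X Spor.leechV, dt x (a • x) = 8
  · exact not_const hu (fix a) (Or.inr rfl) hall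
  push Not at hall
  obtain ⟨x, hx, hx8⟩ := hall
  have hx16 := (hcase x hx).resolve_right hx8
  by_cases hall' : ∀ y ∈ X Spor.leechV, dt y (a • y) = 16
  · exact not_const hu (fix a) (Or.inl rfl) hall'
  push Not at hall'
  obtain ⟨y, hy, hy16⟩ := hall'
  have hy8 := (hcase y hy).resolve_left hy16
  -- the contradiction
  have h1 : dt y (Spor.leechV - a⁻¹ • y) = 16 := by
    rw [dt_sub_right, dt_comm, X_dot hu hy]
    have h2 : dt y (a⁻¹ • y) = dt y (a • y) := by
      have h3 := dt_smul (a : Co0) y (a⁻¹ • y)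
      have h4 : (a : Co0) • (a⁻¹ • y) = y := smul_inv_smul a y
      rw [h4] at h3
      rw [← h3, dt_comm]
      rfl
    rw [h2, hy8]
    norm_num
  obtain ⟨g, hg1, hg2⟩ := trans hx (mem_X a hx) hx16 hy (X_compl (mem_X a⁻¹ hy)) h1
  set d := a * (g * a * g⁻¹) with hd
  have hd1 : d • y = Spor.leechV - y := by
    rw [hd, mul_smul, mul_smul, mul_smul]
    have e1 : g⁻¹ • y = x := by rw [← hg1, inv_smul_smul]
    rw [e1, hg2]
    have e2 : a • (Spor.leechV - a⁻¹ • y) = (a : Co0) • (Spor.leechV - a⁻¹ • y) := rfl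
    rw [e2, co0_smul_sub, fix]
    have e3 : (a : Co0) • (a⁻¹ • y) = y := smul_inv_smul a y
    rw [e3]
  have hd2 : d • d • y = y := by
    rw [hd1]
    have e2 : d • (Spor.leechV - y) = (d : Co0) • (Spor.leechV - y) := rfl
    have e3 : (d : Co0) • y = Spor.leechV - y := hd1
    rw [e2, co0_smul_sub, fix, e3, sub_sub_cancel]
  have hdo : Odd (orderOf d) := by
    obtain ⟨k, hk⟩ := hP g
    rw [← hd] at hk
    rw [hk]
    exact (hp.odd_of_ne_two hp2).pow
  have h5 := fixed_of_sq hdo hd2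
  rw [hd1] at h5
  exact X_ne hu hy h5

theorem core_co3 {K : Type*} [Group K] (h : Spor.IsoCo3 K) : Core K := by
  have hf : Finite K := Nat.finite_of_card_ne_zero (by
    rw [(Cfsg.Agent.BpSpor.Row.dat_co3 h).card]; norm_num)
  have e : K ≃* G3 := h.some.trans Cfsg.Agent.SporRec.Co3.Model.equivCo3.symm
  refine core_of_dat (Cfsg.Agent.BpSpor.Row.dat_co3 h) (l := [(2, 10), (3, 7), (5, 3), (7, 1), (11, 1), (23, 1)])
    (by decide +kernel) (by norm_num) (fun x _ hx2 hxp => ?_)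
  exact (noA hxp hx2).of_equiv e

end Cfsg.Agent.H177.AACo3
end

-- part: H235/AA/ON
section
set_option linter.all false
open scoped Cfsg.Agent.FastGrp

/-!
# The `AA` problem for `ON` (helper235)
-/

set_option autoImplicit false

namespace Cfsg.Agent.H235.AA.ON

open Subgroup Cfsg Cfsg.Agent.H459.Rad Cfsg.Agent.H460.AA Cfsg.Agent.H235.AA.Tools
open Cfsg.Agent.H839.Rad (RadFree false_of_comm false_of_sylow)
open Cfsg.Spor (ON)
open Cfsg.Agent.SporadicB.ON45Word (on)
open Cfsg.Agent.KFacts.ON.Struct Cfsg.Agent.KFacts.ON.Words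

theorem card_ON : Nat.card ON = 460815505920 := Cfsg.Agent.KFacts.ON.Cent.hON.2

theorem simple : IsSimpleGroup ON := Cfsg.Agent.KFacts.ON.Cent.hON.1

instance fin : Finite ON := Cfsg.Agent.KFacts.ON.Cent.finite_ON

theorem not_comm : ¬ IsMulCommutative ON := by
  have := simple
  exact not_comm_of_card (by rw [card_ON]; norm_num)

theorem np_seven : NP 7 ON := by
  obtain ⟨N, -, hN, ⟨e⟩⟩ := Cfsg.Agent.S1693.result
  have hps : IsSimpleGroup (Matrix.ProjectiveSpecialLinearGroup (Fin 3) (ZMod 7)) := by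
    have : Fact (Nat.Prime 7) := ⟨by norm_num⟩
    exact Cfsg.Agent.S0249.result 3 le_rfl
  have hNs : IsSimpleGroup N := e.isSimpleGroup
  have hcH : Nat.card Cfsg.Agent.SporRec.ONAssembly.H = 3753792 :=
    Cfsg.Agent.SporRec.ONAssembly.card_H SporRec.ONLower.ab_ne_one
  have hcN : Nat.card N = 1876896 := by
    have h := N.card_mul_index
    rw [hN] at h
    have h' : Nat.card N * 2 = 3753792 := h.trans hcH
    omega
  let M : Subgroup ON := N.map (Cfsg.Agent.SporRec.ONAssembly.H).subtype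
  let f : N ≃* M := N.equivMapOfInjective _ (Subgroup.subtype_injective _)
  have hMs : IsSimpleGroup M := f.symm.isSimpleGroup
  have hcM : Nat.card M = 1876896 := by rw [← Nat.card_congr f.toEquiv, hcN]
  have hidx : M.index = 245520 := by
    have h := M.card_mul_index
    rw [hcM, card_ON] at h
    omega
  refine NP.of_rc fun x hx hR => ?_
  refine false_of_sylow (M := M) (by norm_num) hx hR ?_ (by rw [hidx]; norm_num) ?_
  · intro h
    rw [h, index_top] at hidx
    omega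
  · refine RadFree.of_simple (by norm_num) fun hsol => ?_
    exact not_comm_of_card (K := M) (by rw [hcM]; norm_num) ⟨⟨IsSimpleGroup.comm_iff_isSolvable.2 hsol⟩⟩

/-- the centralizer of the involution `f` -/
theorem radFree_f : RadFree 3 ↥(centralizer ({on .f} : Set ON)) := by
  have hJle : J ≤ centralizer ({on .f} : Set ON) := by
    intro x hx
    exact mem_centralizer_singleton_iff.2 (mem_K0.1 (J_le hx))
  have hcC : Nat.card ↥(centralizer ({on .f} : Set ON)) = 161280 := Cfsg.Agent.KFacts.ON.Cent.card_cent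
  have hn : (J.subgroupOf (centralizer ({on .f} : Set ON))).Normal := by
    constructor
    intro x hx g
    exact mem_subgroupOf.2 (J_normal (mem_K0.2 (mem_centralizer_singleton_iff.1 g.2)) (mem_subgroupOf.1 hx))
  have hi : (J.subgroupOf (centralizer ({on .f} : Set ON))).index = 2 := by
    have h := (J.subgroupOf (centralizer ({on .f} : Set ON))).card_mul_index
    rw [Nat.card_congr (subgroupOfEquivOfLe hJle).toEquiv, card_J, hcC] at h
    omega
  refine RadFree.of_index Nat.prime_three (J.subgroupOf (centralizer ({on .f} : Set ON))) (by rw [hi]; norm_num)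
    (RadFree.congr Nat.prime_three (subgroupOfEquivOfLe hJle) ?_)
  -- `J` is quasisimple with centre in `⟨v⟩`
  have hq : IsQuasisimple J := Cfsg.Agent.KFacts.ON.Qs.qs
  have h2 : IsSimpleGroup (J ⧸ center J) := hq.2
  have hns : ¬ Group.IsSolvable (J ⧸ center J) := by
    intro hs
    have h1 := IsSimpleGroup.comm_iff_isSolvable.2 hs
    have h3 : commutator J = ⊤ := hq.1.commutator_eq_top
    have h4 : commutator J ≤ center J := by
      rw [_root_.commutator_def, commutator_le]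
      intro a _ b _
      rw [← QuotientGroup.eq_one_iff]
      have h5 := h1 (a : J ⧸ center J) (b : J ⧸ center J)
      rw [← QuotientGroup.mk'_apply, map_commutatorElement, commutatorElement_eq_one_iff_mul_comm]
      exact h5
    rw [h3, top_le_iff] at h4
    have h6 : Subsingleton (J ⧸ center J) := by rw [h4]; exact QuotientGroup.subsingleton_quotient_top
    exact not_subsingleton (J ⧸ center J) h6
  refine RadFree.of_surj Nat.prime_three (QuotientGroup.mk' (center J)) (QuotientGroup.mk'_surjective _) ?_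
    (.of_simple (by norm_num) hns)
  intro x hx ho
  have h3 : x ∈ center J := (QuotientGroup.eq_one_iff x).1 hx
  have h4 : (x : ON) ∈ zpowers v := cent_J fun y hy => by
    have h5 := mem_center_iff.1 h3 ⟨y, hy⟩
    exact (congrArg Subtype.val h5).symm
  obtain ⟨k, hk⟩ := h4
  have hk' : v ^ k = (x : ON) := hk
  have hv4 : v ^ 4 = 1 := by
    have h5 : v ^ 2 = on .f := by rw [pow_two]; exact vv
    rw [show 4 = 2 * 2 by norm_num, pow_mul, h5, pow_two, ff]
  have h6 : (x : ON) ^ 4 = 1 := by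
    rw [← hk', ← zpow_natCast, ← zpow_mul, mul_comm, zpow_mul, zpow_natCast, hv4, one_zpow]
  have h7 : orderOf (x : ON) ∣ 4 := orderOf_dvd_of_pow_eq_one h6
  rw [Subgroup.orderOf_coe, ho] at h7
  omega

theorem np_three : NP 3 ON := by
  have hs := simple
  have hcen := center_eq_bot not_comm
  refine NP.of_rc fun x hx hR => ?_
  obtain ⟨s, hs2, hsx⟩ := Cfsg.Agent.R04.ONThree.exists_inv Cfsg.Agent.KFacts.ON.Cent.hON x hx
  have h1 : IsConj (on .f) s := by
    refine (Cfsg.Agent.KFacts.ON.OneClass.one_class ?_ ?_).symm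
    · rw [← pow_two, ← hs2, pow_orderOf_eq_one]
    · rintro rfl
      rw [orderOf_one] at hs2
      omega
  obtain ⟨g, hg⟩ := isConj_iff.1 h1
  refine false_of_comm hx hR ?_ hsx.symm (radFree_cent_conj Nat.prime_three hg radFree_f)
  rw [hcen, mem_bot]
  rintro rfl
  rw [orderOf_one] at hs2
  omega

theorem core {K : Type*} [Group K] [Finite K] (h : Cfsg.Spor.IsoON K) : Core K := by
  obtain ⟨e⟩ := h
  refine Core.of_equiv e ?_
  have hs := simple
  refine core_of_card (s := 2 ^ 9 * 3 ^ 4 * 7 ^ 3) (m := 5 * 11 * 19 * 31)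
    (by rw [card_ON]; norm_num) ?_ (by norm_num)
    (fun p hp hp2 x hx => Cfsg.Agent.CpAutON.Seven.autInner hp.out hp2 x hx) ?_
  · refine squarefree_mul_of (squarefree_mul_of (squarefree_mul_of
      (Irreducible.squarefree (by norm_num : Nat.Prime 5)) ?_ ?_) ?_ ?_) ?_ ?_ <;> norm_num
  · intro p hp hp2 hd
    rcases (Nat.Prime.dvd_mul hp).1 hd with h1 | h1
    · rcases (Nat.Prime.dvd_mul hp).1 h1 with h2 | h2
      · exact absurd ((Nat.prime_dvd_prime_iff_eq hp Nat.prime_two).1 (hp.dvd_of_dvd_pow h2)) hp2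
      · rw [(Nat.prime_dvd_prime_iff_eq hp Nat.prime_three).1 (hp.dvd_of_dvd_pow h2)]
        exact np_three
    · rw [(Nat.prime_dvd_prime_iff_eq hp (by norm_num : Nat.Prime 7)).1 (hp.dvd_of_dvd_pow h1)]
      exact np_seven

end Cfsg.Agent.H235.AA.ON
end

-- part: H235/AA/Ly
section
set_option linter.all false
open scoped Cfsg.Agent.FastGrp

/-!
# The `AA` problem for `Ly` (helper235)
-/

set_option autoImplicit false

namespace Cfsg.Agent.H235.AA.Ly

open Subgroup Cfsg Cfsg.Agent.H459.Rad Cfsg.Agent.H460.AA Cfsg.Agent.H235.AA.Tools Cfsg.Agent.SporRec.LyG2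
open Cfsg.Agent.H839.Rad (RadFree false_of_comm false_of_sylow)

theorem card_Ly : Nat.card Spor.Ly = 51765179004000000 := Cfsg.Agent.Ly.IndexEq.card_ly

instance fin : Finite Spor.Ly := Nat.finite_of_card_ne_zero (by rw [card_Ly]; norm_num)

theorem simple : IsSimpleGroup Spor.Ly := Cfsg.Agent.Ly.Setup.isLy'.1

theorem not_comm : ¬ IsMulCommutative Spor.Ly := by
  have := simple
  exact not_comm_of_card (by rw [card_Ly]; norm_num)

theorem np_five : NP 5 Spor.Ly := by
  have hidx : LyEmb.H.index = 8835156 := by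
    have h := LyEmb.H.card_mul_index
    rw [LyEmb.card_H, card_Ly] at h
    omega
  have hs : IsSimpleGroup LyEmb.H := LyEmb.isSimpleGroup_H
  refine NP.of_rc fun x hx h1 => ?_
  refine false_of_sylow (M := LyEmb.H) (by norm_num) hx h1 ?_ ?_ ?_
  · intro h
    rw [h, index_top] at hidx
    omega
  · rw [hidx]
    norm_num
  · refine RadFree.of_simple (by norm_num) fun hsol => ?_
    exact not_comm_of_card (K := LyEmb.H) (by rw [LyEmb.card_H]; norm_num)
      ⟨⟨IsSimpleGroup.comm_iff_isSolvable.2 hsol⟩⟩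

open Cfsg.Agent.R10.Close in
theorem radFree_invol {p : ℕ} (hp : p.Prime) (hp2 : p ≠ 2) {t : Spor.Ly} (ht : orderOf t = 2) :
    RadFree p ↥(centralizer ({t} : Set Spor.Ly)) := by
  obtain ⟨g, hg⟩ := one_class ht
  refine radFree_cent_conj hp hg ?_
  obtain ⟨-, hc, ⟨e⟩, -⟩ := cover_τ
  refine radFree_central hp ?_ e (radFree_alt (by norm_num) hp)
  rw [hc]
  intro h
  exact hp2 ((Nat.prime_dvd_prime_iff_eq hp Nat.prime_two).1 h)

open Cfsg.Agent.CpAutLy.Base in
theorem np_three : NP 3 Spor.Ly := by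
  have hsim := simple
  obtain ⟨x₀, T⟩ := exists_three
  obtain ⟨hMf, hMs, hMc, -⟩ := TypeM.FactsMcL.facts T.quot
  obtain ⟨s, hs, hsx, -⟩ := Cfsg.Agent.CpAutLy.Row.exists_base_nn T
  set H := centralizer ({x₀} : Set Spor.Ly) with hH
  have hcH : Nat.card H = 3 * 898128000 := by
    rw [Subgroup.card_eq_card_quotient_mul_card_subgroup (center H), T.zcard, hMc]
  have hidx : H.index = 19212250 := by
    have h := H.card_mul_index
    rw [hcH, card_Ly] at h
    omega
  have hM : ¬ IsMulCommutative (↥H ⧸ center ↥H) := not_comm_of_card (by rw [hMc]; norm_num)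
  -- the radical of `H` is its centre
  have hrad : ∀ x : H, x ∈ solvableRadical H → x ∈ center H := by
    intro x hx
    have h1 := map_rad_le (QuotientGroup.mk'_surjective (center H)) hx
    rw [rad_eq_bot_of_simple (Q := ↥H ⧸ center ↥H) (fun h => hM ⟨⟨IsSimpleGroup.comm_iff_isSolvable.2 h⟩⟩), mem_bot] at h1
    exact (QuotientGroup.eq_one_iff _).1 h1
  refine NP.of_rc fun x hx hR => ?_
  have hcen := center_eq_bot not_comm
  -- a conjugate lies in `H`
  have h3 : Fact (Nat.Prime 3) := ⟨Nat.prime_three⟩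
  have hx' : IsPGroup 3 ↥(zpowers x) := IsPGroup.of_card (n := 1) (by rw [Nat.card_zpowers, hx, pow_one])
  obtain ⟨g, hg⟩ : ∃ g : Spor.Ly, g * x * g⁻¹ ∈ H := by
    have h2 : (MulAction.fixedPoints (zpowers x) (Spor.Ly ⧸ H)).Nonempty := by
      refine hx'.nonempty_fixed_point_of_prime_not_dvd_card (α := Spor.Ly ⧸ H) ?_
      have : Nat.card (Spor.Ly ⧸ H) = 19212250 := hidx
      rw [this]; norm_num
    obtain ⟨y, hy⟩ := h2
    obtain ⟨g, rfl⟩ := QuotientGroup.mk_surjective y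
    refine ⟨g⁻¹, ?_⟩
    have h3 := hy ⟨x, mem_zpowers x⟩
    have h4 : ((x * g : Spor.Ly) : Spor.Ly ⧸ H) = (g : Spor.Ly ⧸ H) := h3
    rw [QuotientGroup.eq] at h4
    have h5 := H.inv_mem h4
    rw [inv_inv]
    have e : ((x * g)⁻¹ * g)⁻¹ = g⁻¹ * x * g := by group
    rwa [e] at h5
  have hHt : H ≠ ⊤ := by
    intro h
    rw [h, index_top] at hidx
    omega
  have h1 := mem_radIn (RC_conj hR g) hHt hg
  have h2 := mem_radIn_coe (x := ⟨_, hg⟩) |>.1 h1
  have h4 := hrad _ h2
  have h5 : g * x * g⁻¹ * s = s * (g * x * g⁻¹) := by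
    have h6 := mem_center_iff.1 h4 ⟨s, mem_centralizer_singleton_iff.2 hsx⟩
    exact (congrArg Subtype.val h6).symm
  refine false_of_comm (x := g * x * g⁻¹) (t := s) (p := 3) (by rw [← MulAut.conj_apply, MulEquiv.orderOf_eq, hx])
    (RC_conj hR g) ?_ h5 (radFree_invol Nat.prime_three (by norm_num) hs)
  rw [hcen, mem_bot]
  rintro rfl
  rw [orderOf_one] at hs
  omega

theorem core {K : Type*} [Group K] [Finite K] (h : Cfsg.Spor.IsoLy K) : Core K := by
  obtain ⟨e⟩ := h
  refine Core.of_equiv e ?_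
  have hs := simple
  refine core_of_card (s := 2 ^ 8 * 3 ^ 7 * 5 ^ 6) (m := 7 * 11 * 31 * 37 * 67)
    (by rw [card_Ly]; norm_num) ?_ (by norm_num) (fun p _ _ x hx => Cfsg.Agent.CpAut.LyFiveRow.autInner p x hx) ?_
  · refine squarefree_mul_of (squarefree_mul_of (squarefree_mul_of (squarefree_mul_of
      (Irreducible.squarefree (by norm_num : Nat.Prime 7)) ?_ ?_) ?_ ?_) ?_ ?_) ?_ ?_ <;> norm_num
  · intro p hp hp2 hd
    rcases (Nat.Prime.dvd_mul hp).1 hd with h1 | h1
    · rcases (Nat.Prime.dvd_mul hp).1 h1 with h2 | h2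
      · exact absurd ((Nat.prime_dvd_prime_iff_eq hp Nat.prime_two).1 (hp.dvd_of_dvd_pow h2)) hp2
      · rw [(Nat.prime_dvd_prime_iff_eq hp Nat.prime_three).1 (hp.dvd_of_dvd_pow h2)]
        exact np_three
    · rw [(Nat.prime_dvd_prime_iff_eq hp (by norm_num : Nat.Prime 5)).1 (hp.dvd_of_dvd_pow h1)]
      exact np_five

end Cfsg.Agent.H235.AA.Ly
end

-- part: H177/AACo2
section
set_option linter.all false
open scoped Cfsg.Agent.FastGrp

-- part: H177/AACyc
section
/-!
# `AA` problem: Sylow subgroups of prime order (helper177)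

`noA_cyc` : `K` simple of order `N * M`, `p ^ 2 ∤ |K|`, `M ^ 2 ≤ |K|`, and elements of order `p` commute with no element of
prime order dividing `N`.
-/

set_option autoImplicit false

namespace Cfsg.Agent.H177.AACyc

open Subgroup Cfsg Cfsg.Agent.H177.AARow Cfsg.Agent.H460.AA Cfsg.Agent.H459.Rad

theorem card_cent_dvd {G : Type*} [Group G] [Finite G] {a : G} {N M : ℕ} (hc : Nat.card G = N * M)
    (h : ∀ q : ℕ, q.Prime → q ∣ N → ∀ y : G, orderOf y = q → a * y ≠ y * a) :
    Nat.card ↥(centralizer ({a} : Set G)) ∣ M := by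
  have h1 : Nat.Coprime (Nat.card ↥(centralizer ({a} : Set G))) N := by
    rw [Nat.coprime_iff_gcd_eq_one]
    by_contra hne
    obtain ⟨q, hq, hqd⟩ := Nat.exists_prime_and_dvd hne
    have : Fact q.Prime := ⟨hq⟩
    obtain ⟨y, hy⟩ := exists_prime_orderOf_dvd_card' q (hqd.trans (Nat.gcd_dvd_left _ _))
    refine h q hq (hqd.trans (Nat.gcd_dvd_right _ _)) y (by rw [← hy]; exact Subgroup.orderOf_coe y) ?_
    exact (mem_centralizer_singleton_iff.1 y.2).symm
  exact h1.dvd_of_dvd_mul_left (hc ▸ card_subgroup_dvd_card _)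

theorem noA_cyc {K : Type*} [Group K] [Finite K] [IsSimpleGroup K] {p N M : ℕ} (hp : p.Prime) (hp2 : p ≠ 2)
    (hc : Nat.card K = N * M) (hnp : ¬ (Nat.card K).Prime) (hpc : p ∣ Nat.card K) (hpp : ¬ p ^ 2 ∣ Nat.card K)
    (hM : M ^ 2 ≤ N * M)
    (h : ∀ q : ℕ, q.Prime → q ∣ N → ∀ x y : K, orderOf x = p → orderOf y = q → x * y ≠ y * x) : NoA p K := by
  have hpf : Fact p.Prime := ⟨hp⟩
  intro a ha _ hP
  have hna : ¬ IsMulCommutative K := by
    intro hm
    let _ : CommGroup K := { (inferInstance : Group K) with mul_comm := hm.is_comm.comm }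
    exact hnp IsSimpleGroup.prime_card
  have hS : ∀ P : Sylow p K, Nat.card P = p := by
    intro P
    rw [P.card_eq_multiplicity]
    have h1 : (Nat.card K).factorization p = 1 := by
      refine le_antisymm ?_ ?_
      · by_contra hlt
        exact hpp ((pow_dvd_pow p (by omega)).trans (Nat.ordProj_dvd (Nat.card K) p))
      · exact (hp.dvd_iff_one_le_factorization Nat.card_pos.ne').1 hpc
    rw [h1, pow_one]
  obtain ⟨g, hg⟩ := Cfsg.Agent.H587.AA.pa_cyc hna hp2 hS ha (by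
    have h1 := card_cent_dvd (a := a) hc fun q hq hqN y hy => h q hq hqN a y ha hy
    rw [hc]
    refine le_trans (Nat.pow_le_pow_left (Nat.le_of_dvd ?_ h1) 2) hM
    rcases Nat.eq_zero_or_pos M with h0 | h0
    · rw [h0, mul_zero] at hc
      exact absurd hc Nat.card_pos.ne'
    · exact h0)
  exact hg (hP g)

end Cfsg.Agent.H177.AACyc
end

-- part: H177/AACo2
section
/-!
# `AA` problem: `Co2` (helper177)
-/

set_option autoImplicit false

namespace Cfsg.Agent.H177.AACo2

open Subgroup Cfsg Cfsg.Agent.H177.AARow Cfsg.Agent.H177.AARow2 Cfsg.Agent.H460.AA Cfsg.Agent.H459.Rad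

theorem card_McL : Nat.card Spor.McL = 898128000 := by
  obtain ⟨-, -, h, -⟩ := Cfsg.Agent.TypeM.FactsMcL.facts (M := Spor.McL) ⟨MulEquiv.refl _⟩
  exact h

theorem simple_McL : IsSimpleGroup Spor.McL := by
  obtain ⟨-, h, -, -⟩ := Cfsg.Agent.TypeM.FactsMcL.facts (M := Spor.McL) ⟨MulEquiv.refl _⟩
  exact h

theorem McL_le_Co2 : Spor.McL ≤ Spor.Co2 := fun _ hx => ⟨hx.1.1, hx.2⟩

theorem dat_co2 {K : Type*} [Group K] (h : Spor.IsoCo2 K) : Cfsg.Agent.BpSpor.Dat K 42305421312000 where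
  simple := by
    obtain ⟨e⟩ := h
    exact (MulEquiv.isSimpleGroup_congr e).2 Cfsg.Agent.Schreier.CoTwoStab.isSimpleGroup
  card := by
    obtain ⟨e⟩ := h
    rw [Nat.card_congr e.toEquiv, Cfsg.Agent.Co2Type.CardCo2.card_co2]
  inn := by
    obtain ⟨e⟩ := h
    have := Cfsg.Agent.Schreier.CoTwoStab.finite
    exact Cfsg.Agent.BpSpor.Inn.OddInn.congr e
      (Cfsg.Agent.BpSpor.Inn.of_inner fun α => Cfsg.Agent.KFacts.CoTwo.QuotInst.dataT.allInner α)

theorem noA_mcl {p : ℕ} (hp : p.Prime) (hi : ¬ p ∣ 47104) : NoA p Spor.Co2 :=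
  noA_le McL_le_Co2 card_McL Cfsg.Agent.Co2Type.CardCo2.card_co2 simple_McL (by norm_num) (by norm_num) (by norm_num)
    hp (by norm_num; exact hi)

theorem Co2_le : Spor.Co2 ≤ Co0 := fun _ hx => hx.1

theorem order_incl (x : Spor.Co2) : orderOf (⟨x, Co2_le x.2⟩ : Co0) = orderOf x := by
  rw [← Subgroup.orderOf_coe x, Subgroup.orderOf_mk]

theorem ncomm {x y : Spor.Co2} {q : ℕ} (h : q = 5 ∨ q = 7 ∨ q = 11) (hx : orderOf x = 23)
    (hy : orderOf y = q) : x * y ≠ y * x := by
  intro hc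
  have hx' := order_incl x
  have hy' := order_incl y
  rw [hx] at hx'
  rw [hy] at hy'
  have hc' : (⟨y, Co2_le y.2⟩ : Co0) * ⟨x, Co2_le x.2⟩ = ⟨x, Co2_le x.2⟩ * ⟨y, Co2_le y.2⟩ :=
    Subtype.ext (congrArg (fun z : Spor.Co2 => (z : Equiv.Perm leechLattice)) hc).symm
  refine Cfsg.Agent.H149.Sp.co0_not_comm ?_ (Or.inr (Or.inr (Or.inr (Or.inr rfl)))) ?_ ?_ hy' hx' hc'
  · rcases h with rfl | rfl | rfl
    · exact Or.inl rfl
    · exact Or.inr (Or.inl rfl)
    · exact Or.inr (Or.inr (Or.inl rfl))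
  · omega
  · omega

theorem noA_23 : NoA 23 Spor.Co2 := by
  have hf : Finite Spor.Co2 := Cfsg.Agent.Co2Type.CardCo2.finite_co2
  have hs : IsSimpleGroup Spor.Co2 := (dat_co2 (K := Spor.Co2) ⟨MulEquiv.refl _⟩).simple
  have hc : Nat.card Spor.Co2 = 42305421312000 := Cfsg.Agent.Co2Type.CardCo2.card_co2
  refine Cfsg.Agent.H177.AACyc.noA_cyc (N := 2 ^ 18 * 5 ^ 3 * 7 * 11) (M := 3 ^ 6 * 23) (by norm_num) (by norm_num)
    (by rw [hc]; norm_num) (by rw [hc]; norm_num) (by rw [hc]; norm_num) (by rw [hc]; norm_num) (by norm_num) ?_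
  intro q hq hqN x y hx hy
  have h1 : q = 2 ∨ q = 5 ∨ q = 7 ∨ q = 11 := by
    rcases (Nat.Prime.dvd_mul hq).1 hqN with h | h
    · rcases (Nat.Prime.dvd_mul hq).1 h with h | h
      · rcases (Nat.Prime.dvd_mul hq).1 h with h | h
        · exact Or.inl ((Nat.prime_dvd_prime_iff_eq hq Nat.prime_two).1 (hq.dvd_of_dvd_pow h))
        · exact Or.inr (Or.inl ((Nat.prime_dvd_prime_iff_eq hq Nat.prime_five).1 (hq.dvd_of_dvd_pow h)))
      · exact Or.inr (Or.inr (Or.inl ((Nat.prime_dvd_prime_iff_eq hq (by norm_num)).1 h)))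
    · exact Or.inr (Or.inr (Or.inr ((Nat.prime_dvd_prime_iff_eq hq (by norm_num)).1 h)))
  rcases h1 with rfl | h1
  · exact Cfsg.Agent.H393.Iso.na_co2_model x y hx hy
  · exact ncomm h1 hx hy

theorem core_co2 {K : Type*} [Group K] (h : Spor.IsoCo2 K) : Core K := by
  have hf : Finite K := Nat.finite_of_card_ne_zero (by
    rw [(dat_co2 h).card]; norm_num)
  have e : K ≃* Spor.Co2 := h.some
  refine core_of_dat (dat_co2 h) (l := [(2, 18), (3, 6), (5, 3), (7, 1), (11, 1), (23, 1)])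
    (by decide +kernel) (by norm_num) (fun x hx hx2 _ => ?_)
  simp only [List.mem_cons, List.not_mem_nil, or_false] at hx
  rcases hx with rfl | rfl | rfl | rfl | rfl | rfl
  · exact absurd rfl hx2
  · exact (noA_mcl (by norm_num) (by norm_num)).of_equiv e
  · exact (noA_mcl (by norm_num) (by norm_num)).of_equiv e
  · exact (noA_mcl (by norm_num) (by norm_num)).of_equiv e
  · exact (noA_mcl (by norm_num) (by norm_num)).of_equiv e
  · exact noA_23.of_equiv e

end Cfsg.Agent.H177.AACo2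
end
end
end
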