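import Cfsg.Agent.H235.AA.HN3Mat
import Cfsg.Agent.H235.AA.Row_m3
import Cfsg.Agent.H839.Rad.HNFive
import Cfsg.Agent.CpAutHN.Main
import Cfsg.Agent.FastGrp
import Cfsg.Agent.Prune
set_option linter.all false
prune_inst 0x7f00000000000000000000000000000000000000000000000000000000000000000000000000000000000000000000000000000000000000000000000000000000000000000000000000000000000000003fffffffffffffffffffffffffffbeffbdffffffff
open scoped Cfsg.Agent.FastGrp

/-!
# The `AA` problem for `HN`, `p = 3` and `p = 5`, and the row (helper235)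

The relations of `W, A, B, C₁, D, G, F, k` read off from `HN3Mat.chk`; `ext` : `A, B, C₁, D` generate an extraspecial group
`3 ^ (1 + 4)` with centre `⟨W⟩`; `np_three`, `np_five`, `core`.
-/

set_option autoImplicit false
set_option linter.unusedSimpArgs false

namespace Cfsg.Agent.H235.AA.HN3

open Subgroup Cfsg.Agent.H839.Rad Cfsg.Agent.H839.Rad.Ext Cfsg.Agent.H235.AA.Tools Cfsg.Agent.H460.AA
open Cfsg.Agent.H839.Rad.HN (conj_of)

/-- result 74 -/
noncomputable def W : Cfsg.Spor.HN := R 74
/-- result 64 -/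
noncomputable def A : Cfsg.Spor.HN := R 64
/-- result 73 -/
noncomputable def B : Cfsg.Spor.HN := R 73
/-- result 72 -/
noncomputable def C₁ : Cfsg.Spor.HN := R 72
/-- result 57 -/
noncomputable def D : Cfsg.Spor.HN := R 57
/-- result 68 -/
noncomputable def G : Cfsg.Spor.HN := R 68
/-- result 56 -/
noncomputable def F : Cfsg.Spor.HN := R 56
theorem r84 : R 84 = R 105 * (R 106 * 1) :=
  stepR (i := 84) (w := [20, 21]) (by decide) (by rfl)
theorem r64 : A = G * (W * (G * 1)) :=
  stepR (i := 64) (w := [3, 9, 3]) (by decide) (by rfl)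
theorem r56 : F = G * (D * (G * 1)) :=
  stepR (i := 56) (w := [11, 0, 11]) (by decide) (by rfl)
theorem r55 : R 55 = A * (A * 1) :=
  stepR (i := 55) (w := [8, 8]) (by decide) (by rfl)
theorem r54 : R 54 = B * (B * 1) :=
  stepR (i := 54) (w := [18, 18]) (by decide) (by rfl)
theorem r53 : R 53 = C₁ * (C₁ * 1) :=
  stepR (i := 53) (w := [18, 18]) (by decide) (by rfl)
theorem r52 : R 52 = D * (D * 1) :=
  stepR (i := 52) (w := [4, 4]) (by decide) (by rfl)
theorem r51 : R 51 = W * (W * 1) :=
  stepR (i := 51) (w := [22, 22]) (by decide) (by rfl)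
theorem one_eq : R 84 = 1 := by
  rw [r84, show R 105 = Cfsg.Agent.HN.Rep.gens.getD 0 1 from genR 0, show R 106 = Cfsg.Agent.HN.Rep.gens.getD 1 1 from genR 1]
  show Cfsg.Agent.HN.Rep.x * (Cfsg.Agent.HN.Rep.x⁻¹ * 1) = 1
  rw [mul_one, mul_inv_cancel]

theorem r50 : R 50 = G * (G * 1) :=
  stepR (i := 50) (w := [17, 17]) (by decide) (by rfl)
theorem e_g : G * G = 1 := by
  have h : R 50 = R 84 := eqR (i := 50) (j := 84) (by decide)
  simp only [r50, one_eq, r55, r54, r53, r52, r51, mul_one, mul_assoc] at h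
  try simp only [mul_assoc]
  exact h
theorem r49 : R 49 = R 51 * (W * 1) :=
  stepR (i := 49) (w := [1, 24]) (by decide) (by rfl)
theorem e_w3 : W * W * W = 1 := by
  have h : R 49 = R 84 := eqR (i := 49) (j := 84) (by decide)
  simp only [r49, one_eq, r55, r54, r53, r52, r51, mul_one, mul_assoc] at h
  try simp only [mul_assoc]
  exact h
theorem r48 : R 48 = R 54 * (B * 1) :=
  stepR (i := 48) (w := [5, 24]) (by decide) (by rfl)
theorem e_b3 : B * B * B = 1 := by
  have h : R 48 = R 84 := eqR (i := 48) (j := 84) (by decide)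
  simp only [r48, one_eq, r55, r54, r53, r52, r51, mul_one, mul_assoc] at h
  try simp only [mul_assoc]
  exact h
theorem r47 : R 47 = R 53 * (C₁ * 1) :=
  stepR (i := 47) (w := [5, 24]) (by decide) (by rfl)
theorem e_c3 : C₁ * C₁ * C₁ = 1 := by
  have h : R 47 = R 84 := eqR (i := 47) (j := 84) (by decide)
  simp only [r47, one_eq, r55, r54, r53, r52, r51, mul_one, mul_assoc] at h
  try simp only [mul_assoc]
  exact h
theorem r46 : R 46 = R 52 * (D * 1) :=
  stepR (i := 46) (w := [5, 10]) (by decide) (by rfl)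
theorem e_d3 : D * D * D = 1 := by
  have h : R 46 = R 84 := eqR (i := 46) (j := 84) (by decide)
  simp only [r46, one_eq, r55, r54, r53, r52, r51, mul_one, mul_assoc] at h
  try simp only [mul_assoc]
  exact h
theorem r45 : R 45 = A * (B * 1) :=
  stepR (i := 45) (w := [18, 27]) (by decide) (by rfl)
theorem r44 : R 44 = B * (A * (W * 1)) :=
  stepR (i := 44) (w := [28, 19, 29]) (by decide) (by rfl)
theorem e_ab : A * B = B * A * W := by
  have h : R 45 = R 44 := eqR (i := 45) (j := 44) (by decide)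
  simp only [r45, r44, r55, r54, r53, r52, r51, mul_one, mul_assoc] at h
  try simp only [mul_assoc]
  exact h
theorem r43 : R 43 = C₁ * (D * 1) :=
  stepR (i := 43) (w := [28, 13]) (by decide) (by rfl)
theorem r42 : R 42 = D * (C₁ * (W * 1)) :=
  stepR (i := 42) (w := [14, 29, 31]) (by decide) (by rfl)
theorem e_cd : C₁ * D = D * C₁ * W := by
  have h : R 43 = R 42 := eqR (i := 43) (j := 42) (by decide)
  simp only [r43, r42, r55, r54, r53, r52, r51, mul_one, mul_assoc] at h
  try simp only [mul_assoc]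
  exact h
theorem r41 : R 41 = A * (C₁ * 1) :=
  stepR (i := 41) (w := [22, 30]) (by decide) (by rfl)
theorem r40 : R 40 = C₁ * (A * 1) :=
  stepR (i := 40) (w := [31, 23]) (by decide) (by rfl)
theorem e_ac : A * C₁ = C₁ * A := by
  have h : R 41 = R 40 := eqR (i := 41) (j := 40) (by decide)
  simp only [r41, r40, r55, r54, r53, r52, r51, mul_one, mul_assoc] at h
  try simp only [mul_assoc]
  exact h
theorem r39 : R 39 = A * (D * 1) :=
  stepR (i := 39) (w := [24, 17]) (by decide) (by rfl)
theorem r38 : R 38 = D * (A * 1) :=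
  stepR (i := 38) (w := [18, 25]) (by decide) (by rfl)
theorem e_ad : A * D = D * A := by
  have h : R 39 = R 38 := eqR (i := 39) (j := 38) (by decide)
  simp only [r39, r38, r55, r54, r53, r52, r51, mul_one, mul_assoc] at h
  try simp only [mul_assoc]
  exact h
theorem r37 : R 37 = B * (C₁ * 1) :=
  stepR (i := 37) (w := [35, 34]) (by decide) (by rfl)
theorem r36 : R 36 = C₁ * (B * 1) :=
  stepR (i := 36) (w := [35, 36]) (by decide) (by rfl)
theorem e_bc : B * C₁ = C₁ * B := by
  have h : R 37 = R 36 := eqR (i := 37) (j := 36) (by decide)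
  simp only [r37, r36, r55, r54, r53, r52, r51, mul_one, mul_assoc] at h
  try simp only [mul_assoc]
  exact h
theorem r35 : R 35 = B * (D * 1) :=
  stepR (i := 35) (w := [37, 21]) (by decide) (by rfl)
theorem r34 : R 34 = D * (B * 1) :=
  stepR (i := 34) (w := [22, 38]) (by decide) (by rfl)
theorem e_bd : B * D = D * B := by
  have h : R 35 = R 34 := eqR (i := 35) (j := 34) (by decide)
  simp only [r35, r34, r55, r54, r53, r52, r51, mul_one, mul_assoc] at h
  try simp only [mul_assoc]
  exact h
theorem r33 : R 33 = W * (A * 1) :=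
  stepR (i := 33) (w := [40, 30]) (by decide) (by rfl)
theorem r32 : R 32 = A * (W * 1) :=
  stepR (i := 32) (w := [31, 41]) (by decide) (by rfl)
theorem e_wa : W * A = A * W := by
  have h : R 33 = R 32 := eqR (i := 33) (j := 32) (by decide)
  simp only [r33, r32, r55, r54, r53, r52, r51, mul_one, mul_assoc] at h
  try simp only [mul_assoc]
  exact h
theorem r31 : R 31 = W * (B * 1) :=
  stepR (i := 31) (w := [42, 41]) (by decide) (by rfl)
theorem r30 : R 30 = B * (W * 1) :=
  stepR (i := 30) (w := [42, 43]) (by decide) (by rfl)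
theorem e_wb : W * B = B * W := by
  have h : R 31 = R 30 := eqR (i := 31) (j := 30) (by decide)
  simp only [r31, r30, r55, r54, r53, r52, r51, mul_one, mul_assoc] at h
  try simp only [mul_assoc]
  exact h
theorem r29 : R 29 = W * (C₁ * 1) :=
  stepR (i := 29) (w := [44, 42]) (by decide) (by rfl)
theorem r28 : R 28 = C₁ * (W * 1) :=
  stepR (i := 28) (w := [43, 45]) (by decide) (by rfl)
theorem e_wc : W * C₁ = C₁ * W := by
  have h : R 29 = R 28 := eqR (i := 29) (j := 28) (by decide)
  simp only [r29, r28, r55, r54, r53, r52, r51, mul_one, mul_assoc] at h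
  try simp only [mul_assoc]
  exact h
theorem r27 : R 27 = W * (D * 1) :=
  stepR (i := 27) (w := [46, 29]) (by decide) (by rfl)
theorem r26 : R 26 = D * (W * 1) :=
  stepR (i := 26) (w := [30, 47]) (by decide) (by rfl)
theorem e_wd : W * D = D * W := by
  have h : R 27 = R 26 := eqR (i := 27) (j := 26) (by decide)
  simp only [r27, r26, r55, r54, r53, r52, r51, mul_one, mul_assoc] at h
  try simp only [mul_assoc]
  exact h
theorem G_inv : G⁻¹ = G := inv_eq_of_mul_eq_one_right e_g

theorem A_eq : A = G * W * G := by rw [r64, mul_one, mul_assoc]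

theorem F_eq : F = G * D * G := by rw [r56, mul_one, mul_assoc]

theorem GWG : G * W * G⁻¹ = A := by rw [G_inv, A_eq]

theorem GAG : G * A * G⁻¹ = W := by
  rw [G_inv, A_eq]
  calc G * (G * W * G) * G = (G * G) * W * (G * G) := by group
    _ = W := by rw [e_g, one_mul, mul_one]

theorem W_ne : W ≠ 1 := by
  have h := neR (i := 74) (j := 84) (by decide)
  rw [one_eq] at h
  exact h

theorem cube {x : Cfsg.Spor.HN} (h : x * x * x = 1) : x ^ 3 = 1 := by
  rw [pow_succ, pow_two]; exact h

theorem hW : orderOf W = 3 :=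
  have : Fact (Nat.Prime 3) := ⟨by norm_num⟩
  orderOf_eq_prime (cube e_w3) W_ne

theorem hA : A ^ 3 = 1 := by
  have h : A = MulAut.conj G W := by rw [MulAut.conj_apply, GWG]
  rw [h, ← map_pow, cube e_w3, map_one]

/-- **the extraspecial group `3 ^ (1 + 4)`** -/
theorem ext : Ext 3 W A B C₁ D where
  hw := hW
  ha := hA
  hb := cube e_b3
  hc := cube e_c3
  hd := cube e_d3
  wa := e_wa
  wb := e_wb
  wc := e_wc
  wd := e_wd
  ab := e_ab
  cd := e_cd
  ac := e_ac
  ad := e_ad
  bc := e_bc
  bd := e_bd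

theorem FW : F * W = W * F := by
  have h1 : W = G * A * G⁻¹ := GAG.symm
  have h2 : F = G * D * G⁻¹ := by rw [G_inv, F_eq]
  calc F * W = G * (D * A) * G⁻¹ := by rw [h2, h1]; group
    _ = G * (A * D) * G⁻¹ := by rw [e_ad]
    _ = (G * A * G⁻¹) * (G * D * G⁻¹) := by group
    _ = W * F := by rw [← h1, ← h2]

end Cfsg.Agent.H235.AA.HN3

namespace Cfsg.Agent.H235.AA.HN

open Subgroup Cfsg.Agent.H839.Rad Cfsg.Agent.H839.Rad.Ext Cfsg.Agent.H235.AA.Tools Cfsg.Agent.H460.AA

end Cfsg.Agent.H235.AA.HN
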