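import Cfsg.Agent.H839.Rad.HNFive
import Cfsg.Agent.H235.AA.Row_m3
import Cfsg.Agent.Prune
set_option linter.all false
prune_inst 0x7f00000000000000000000000000000000000000000000000000000000000000000000000000000000000000000000000000000000000000000000000000000000000000000000000000000000000000003fffffffffffffffffffffffffffbeffbdffffffff
open scoped Cfsg.Agent.FastGrp

/-!
# The extraspecial subgroup `3 ^ (1 + 4)` of the Harada-Norton group: matrices (helper235)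

`W = (0 1 2)(3 4 5)(6 7 8)`, `G = (1 3)(2 6)(5 7)(9 10)`, `A = G W G`, `B`, `C₁ = (9 10 11)` in `A12`, `k` of order 5 in `C(W)`,
`D = A B k² C₁² k³`, `F = G D G`; everything is checked in the 133-dimensional representation over the field with 31
elements (`chkA`, `chkB`, `chkC`: three stages, `PackStage`).  The format is the one of helper839's `H839/Rad/HNMat`.
-/

set_option autoImplicit false
set_option maxRecDepth 100000

namespace Cfsg.Agent.H235.AA.HN3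

open Cfsg.Agent.Lib.PackMat Cfsg.Agent.Lib.PackMatGroup Cfsg.Agent.Lib.PackMatMul Cfsg.Agent.HN.RepData
open Cfsg.Agent.HN.Rep (LG gens rho)
open Cfsg.Agent.HN.A12 (ws results)
open Cfsg.Agent.HN.A12Step (L20)
open Cfsg.Agent.HN
open Cfsg.Agent.H839.Rad.HN (evF runG_getD runG_step)
open Cfsg.Agent.HN.A12Data Cfsg.Agent.H235.AA.HN3Data Cfsg.Agent.H235.AA.Stage

/-- the straight line program, starting with the 28 elements `runG ws LG` of `A12` -/
def prog : List (ℕ × List ℕ) := [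
  (20, [21]),
  (9, [9]),
  (9, [9]),
  (1, [12, 0, 11]),
  (9, [9]),
  (9, [9]),
  (1, [12, 0, 11]),
  (9, [9]),
  (9, [9]),
  (1, [12, 0, 11]),
  (6, [3, 0]),
  (4, [4, 1]),
  (12, []),
  (19, [19]),
  (17, [17]),
  (15, [15]),
  (2, [24, 1, 23, 1, 22, 8, 20, 8, 0]),
  (2, [23, 9, 22, 8, 21, 9, 20, 8, 19, 8]),
  (15, [27, 2, 26, 2, 25, 3, 24, 3, 23, 9, 22, 20, 19]),
  (13, [24, 10, 21, 20]),
  (3, [9, 3]),
  (3, [41, 47, 43, 3, 44, 48, 42]),
  (45, [49, 43, 0, 0, 2]),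
  (0, [0, 0]),
  (5, [0, 5]),
  (0, [0]),
  (0, [1]),
  (6, [15, 1, 14, 0]),
  (11, [0, 11]),
  (8, [8]),
  (18, [18]),
  (18, [18]),
  (4, [4]),
  (22, [22]),
  (17, [17]),
  (1, [24]),
  (5, [24]),
  (5, [24]),
  (5, [10]),
  (18, [27]),
  (28, [19, 29]),
  (28, [13]),
  (14, [29, 31]),
  (22, [30]),
  (31, [23]),
  (24, [17]),
  (18, [25]),
  (35, [34]),
  (35, [36]),
  (37, [21]),
  (22, [38]),
  (40, [30]),
  (31, [41]),
  (42, [41]),
  (42, [43]),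
  (44, [42]),
  (43, [45]),
  (46, [29]),
  (30, [47]),
  (42, [46, 42]),
  (31, [39]),
  (40, [32]),
  (33, [50]),
  (51, [50, 30, 52, 34]),
  (35, [51]),
  (44, [52, 36]),
  (37, [38]),
  (46, [39, 33, 38]),
  (43, [57]),
  (58, [44]),
  (45, [58]),
  (40, [39, 43, 46]),
  (47, [59]),
  (43, [41, 48]),
  (49, [46]),
  (62, [42, 50]),
  (46, [64, 63, 43]),
  (52, [56]),
  (1, [53]),
  (67, [47]),
  (55, [3]),
  (1, [56]),
  (61, [51, 54]),
  (58, [3]),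
  (1, [59])]

/-- the equalities -/
def es : List (ℕ × ℕ) := [(50, 84), (49, 84), (48, 84), (47, 84), (46, 84), (45, 44), (43, 42), (41, 40), (39, 38),
  (37, 36), (35, 34), (33, 32), (31, 30), (29, 28), (27, 26), (25, 53), (24, 23), (22, 21),
  (20, 19), (18, 17), (16, 15), (14, 13), (12, 11), (10, 9), (7, 6), (4, 3), (1, 0)]

/-- the inequality -/
def ns : List (ℕ × ℕ) := [(74, 84)]

/-- steps 0 to 19 -/
def pA : List (ℕ × List ℕ) := [
  (20, [21]), (9, [9]), (9, [9]), (1, [12, 0, 11]), (9, [9]), (9, [9]), (1, [12, 0, 11]), (9, [9]), (9, [9]),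
  (1, [12, 0, 11]), (6, [3, 0]), (4, [4, 1]), (12, []), (19, [19]), (17, [17]), (15, [15]),
  (2, [24, 1, 23, 1, 22, 8, 20, 8, 0]), (2, [23, 9, 22, 8, 21, 9, 20, 8, 19, 8]),
  (15, [27, 2, 26, 2, 25, 3, 24, 3, 23, 9, 22, 20, 19]), (13, [24, 10, 21, 20])]

/-- equalities of stage A -/
def eA : List (ℕ × ℕ) := []

/-- inequalities of stage A -/
def nA : List (ℕ × ℕ) := [(9, 19)]

/-- the results needed after stage A -/
def NA : List ℕ := [
  E19, E18, E17, E16, 0, 0, 0, E12, E11, E10, 0, 0, 0, 0, 0, 0, 0, 0, 0, E0, 0, 0, 0, 0, 0, 0, 0, 0, 0, 0, 0,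
  0, 0, 0, 0, 0, 0, 0, 0, 0, X, XI, Y, YI, 0, 0, T, TI]

/-- steps 20 to 59 -/
def pB : List (ℕ × List ℕ) := [
  (3, [9, 3]), (3, [41, 47, 43, 3, 44, 48, 42]), (45, [49, 43, 0, 0, 2]), (0, [0, 0]), (5, [0, 5]), (0, [0]),
  (0, [1]), (6, [15, 1, 14, 0]), (11, [0, 11]), (8, [8]), (18, [18]), (18, [18]), (4, [4]), (22, [22]),
  (17, [17]), (1, [24]), (5, [24]), (5, [24]), (5, [10]), (18, [27]), (28, [19, 29]), (28, [13]),
  (14, [29, 31]), (22, [30]), (31, [23]), (24, [17]), (18, [25]), (35, [34]), (35, [36]), (37, [21]),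
  (22, [38]), (40, [30]), (31, [41]), (42, [41]), (42, [43]), (44, [42]), (43, [45]), (46, [29]), (30, [47]),
  (42, [46, 42])]

/-- equalities of stage B -/
def eB : List (ℕ × ℕ) := [(25, 59), (24, 59), (23, 59), (22, 59), (21, 59), (20, 19), (18, 17), (16, 15), (14, 13), (12, 11), (10, 9),
(8, 7), (6, 5), (4, 3), (2, 1), (0, 28)]

/-- inequalities of stage B -/
def nB : List (ℕ × ℕ) := []

/-- the results needed after stage B -/
def NB : List ℕ := [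
  0, 0, 0, 0, 0, 0, 0, 0, 0, 0, 0, 0, 0, 0, 0, 0, 0, 0, 0, 0, 0, 0, 0, 0, 0, 0, E33, E32, E31, E30, E29, E28,
  E27, 0, 0, E24, 0, 0, 0, E20, 0, 0, 0, 0, 0, 0, 0, E12, E11, E10, 0, 0, 0, 0, 0, 0, 0, 0, 0, 0, 0, 0, 0, 0,
  0, 0, 0, 0, 0, 0, 0, 0, 0, 0, 0, 0, 0, 0, 0, 0, 0, 0, 0, 0, 0, 0, 0, 0]

/-- steps 60 to 84 -/
def pC : List (ℕ × List ℕ) := [
  (31, [39]), (40, [32]), (33, [50]), (51, [50, 30, 52, 34]), (35, [51]), (44, [52, 36]), (37, [38]),
  (46, [39, 33, 38]), (43, [57]), (58, [44]), (45, [58]), (40, [39, 43, 46]), (47, [59]), (43, [41, 48]),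
  (49, [46]), (62, [42, 50]), (46, [64, 63, 43]), (52, [56]), (1, [53]), (67, [47]), (55, [3]), (1, [56]),
  (61, [51, 54]), (58, [3]), (1, [59])]

/-- equalities of stage C -/
def eC : List (ℕ × ℕ) := [(24, 23), (22, 21), (20, 19), (18, 17), (16, 15), (14, 13), (12, 11), (10, 9), (7, 6), (4, 3), (1, 0)]

/-- inequalities of stage C -/
def nC : List (ℕ × ℕ) := []

private noncomputable def rL (f : ℕ → ℕ → ℕ) (ws : List (ℕ × List ℕ)) (L : List ℕ) : List ℕ :=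
  List.rec (motive := fun _ => List ℕ → List ℕ) (fun L => L) (fun w _ ih L => ih (evL f L w.2 (get L w.1) :: L)) ws L

private theorem rL_nil (f : ℕ → ℕ → ℕ) (L : List ℕ) : rL f [] L = L := rfl

private theorem rL_cons (f : ℕ → ℕ → ℕ) (a : ℕ) (w : List ℕ) (ws : List (ℕ × List ℕ)) (L : List ℕ) :
    rL f ((a, w) :: ws) L = rL f ws (evL f L w (get L a) :: L) := rfl

private theorem rL_append (f : ℕ → ℕ → ℕ) (p q : List (ℕ × List ℕ)) : ∀ L, rL f (p ++ q) L = rL f q (rL f p L) := by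
  induction p with
  | nil => exact fun _ => rfl
  | cons w p ih => exact fun L => ih _

private theorem runS_rL (f : ℕ → ℕ → ℕ) (ws : List (ℕ × List ℕ)) (k : List ℕ → Bool) :
    ∀ L, runS f ws L k = k (rL f ws L) := by
  induction ws with
  | nil => exact fun _ => rfl
  | cons w ws ih => exact fun L => (runS_cons f w ws L k).trans (ih _)

private theorem stage_iff (C : Cfg) (ws : List (ℕ × List ℕ)) (es ns : List (ℕ × ℕ)) (L N : List ℕ) :
    stage C ws es ns L N = true ↔ okS ws L.length = true ∧ eqD es (rL (mulM C) ws L) = true ∧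
      neD ns (rL (mulM C) ws L) = true ∧ subD N (rL (mulM C) ws L) = true := by
  delta stage
  rw [withM_eq, runS_rL]
  cases okS ws L.length <;> cases eqD es (rL (mulM C) ws L) <;> cases neD ns (rL (mulM C) ws L) <;>
    cases subD N (rL (mulM C) ws L) <;> decide

private theorem sub_cons (a b : ℕ) (N L : List ℕ) :
    subD (a :: N) (b :: L) = true ↔ (a = 0 ∨ a = b) ∧ subD N L = true := by
  change (bif Nat.beq a 0 then subD N L else bif Nat.beq a b then subD N L else false) = true ↔ _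
  rw [← Nat.beq_eq, ← Nat.beq_eq (x := a) (y := b)]
  cases Nat.beq a 0 <;> cases Nat.beq a b <;> cases subD N L <;> decide

private def pA1 : List (ℕ × List ℕ) := [(20, [21]), (9, [9]), (9, [9]), (1, [12, 0, 11]), (9, [9]), (9, [9]), (1, [12, 0, 11]), (9, [9]), (9, [9]), (1, [12, 0, 11]), (6, [3, 0]), (4, [4, 1]), (12, []), (19, [19]), (17, [17]), (15, [15]), (2, [24, 1, 23, 1, 22, 8, 20, 8, 0]), (0, []), (0, []), (13, [24, 10, 21, 20])]

private def pA2 : List (ℕ × List ℕ) := [(0, []), (0, []), (9, [9]), (0, []), (0, []), (0, []), (0, []), (9, [9]), (9, [9]), (0, []), (0, []), (0, []), (0, []), (0, []), (17, [17]), (15, [15]), (0, []), (2, [23, 9, 22, 8, 21, 9, 20, 8, 19, 8]), (15, [27, 2, 26, 2, 25, 3, 24, 3, 23, 9, 22, 20, 19]), (0, [])]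

private def NA0 : List ℕ := [E16, 0, 0, 0, E12, E11, E10, 0, 0, 0, 0, 0, 0, 0, 0, 0, E0, 0, 0, 0, 0, 0, 0, 0, 0, 0, 0, 0, 0, 0, 0, 0, 0, 0, 0, 0, 0, X, XI, Y, YI, 0, 0, T, TI]

private def pB1 : List (ℕ × List ℕ) := [(3, [9, 3]), (3, [41, 47, 43, 3, 44, 48, 42]), (45, [49, 43, 0, 0, 2]), (0, [0, 0]), (5, [0, 5]), (0, [0]), (0, [1]), (6, [15, 1, 14, 0]), (11, [0, 11]), (8, [8]), (18, [18]), (18, [18]), (4, [4]), (22, [22])]

private def pB2 : List (ℕ × List ℕ) := [(17, [17]), (1, [24]), (5, [24]), (5, [24]), (5, [10]), (18, [27]), (28, [19, 29]), (28, [13]), (14, [29, 31]), (22, [30]), (31, [23]), (24, [17]), (18, [25]), (35, [34]), (35, [36]), (37, [21]), (22, [38]), (40, [30]), (31, [41]), (42, [41]), (42, [43]), (44, [42]), (43, [45]), (46, [29]), (30, [47]), (42, [46, 42])]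

private theorem chkA1 : stage C pA1 eA nA L20 (E19 :: 0 :: 0 :: NA0) = true := by decide +kernel

private theorem chkA2 : stage C pA2 [] [] L20 [0, E18, E17] = true := by decide +kernel

private theorem chkB1 : stage C pB1 [] [] NA (E33 :: E32 :: E31 :: E30 :: E29 :: E28 :: E27 :: 0 :: 0 :: E24 :: 0 :: 0 :: 0 :: E20 :: []) = true := by decide +kernel

private theorem chkB2 : stage C pB2 eB nB (E33 :: E32 :: E31 :: E30 :: E29 :: E28 :: E27 :: 0 :: 0 :: E24 :: 0 :: 0 :: 0 :: E20 :: NA) NB = true := by decide +kernel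

private theorem shapeA (f : ℕ → ℕ → ℕ) (L : List ℕ) : ∃ x y z u v w R R', rL f pA L = x :: y :: z :: R ∧
    rL f pA1 L = x :: u :: v :: R ∧ rL f pA2 L = w :: y :: z :: R' := by
  delta pA pA1 pA2
  simp only [rL_cons, rL_nil, evL_cons, evL_nil, get_cons_zero, get_cons_succ]
  exact ⟨_, _, _, _, _, _, _, _, rfl, rfl, rfl⟩

private theorem glueA (f : ℕ → ℕ → ℕ) (L : List ℕ) {a b c : ℕ} {N : List ℕ}
    (h0 : neD nA (rL f pA1 L) = true) (h1 : subD (a :: 0 :: 0 :: N) (rL f pA1 L) = true)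
    (h2 : subD [0, b, c] (rL f pA2 L) = true) :
    neD nA (rL f pA L) = true ∧ subD (a :: b :: c :: N) (rL f pA L) = true := by
  obtain ⟨x, y, z, u, v, w, R, R', e, e1, e2⟩ := shapeA f L
  rw [e1] at h0 h1
  rw [e2] at h2
  rw [e]
  simp only [sub_cons] at h1 h2 ⊢
  exact ⟨h0, h1.1, h2.2.1, h2.2.2.1, h1.2.2.2⟩

theorem chkA : stage C pA eA nA L20 NA = true := by
  obtain ⟨-, -, h0, h1⟩ := (stage_iff _ _ _ _ _ _).1 chkA1
  obtain ⟨-, -, -, h2⟩ := (stage_iff _ _ _ _ _ _).1 chkA2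
  exact (stage_iff _ _ _ _ _ _).2 ⟨by decide +kernel, rfl, glueA _ _ h0 h1 h2⟩

private theorem shapeB (f : ℕ → ℕ → ℕ) (L : List ℕ) : ∃ x33 x32 x31 x30 x29 x28 x27 x26 x25 x24 x23 x22 x21 x20, rL f pB1 L = x33 :: x32 :: x31 :: x30 :: x29 :: x28 :: x27 :: x26 :: x25 :: x24 :: x23 :: x22 :: x21 :: x20 :: L :=
  ⟨_, _, _, _, _, _, _, _, _, _, _, _, _, _, rfl⟩

private theorem freeB (f : ℕ → ℕ → ℕ) (L M : List ℕ) (a33 a32 a31 a30 a29 a28 a27 a24 a20 y26 y25 y23 y22 y21 : ℕ) :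
    ∃ z59 z58 z57 z56 z55 z54 z53 z52 z51 z50 z49 z48 z47 z46 z45 z44 z43 z42 z41 z40 z39 z38 z37 z36 z35 z34, rL f pB2 (a33 :: a32 :: a31 :: a30 :: a29 :: a28 :: a27 :: y26 :: y25 :: a24 :: y23 :: y22 :: y21 :: a20 :: L) = z59 :: z58 :: z57 :: z56 :: z55 :: z54 :: z53 :: z52 :: z51 :: z50 :: z49 :: z48 :: z47 :: z46 :: z45 :: z44 :: z43 :: z42 :: z41 :: z40 :: z39 :: z38 :: z37 :: z36 :: z35 :: z34 :: a33 :: a32 :: a31 :: a30 :: a29 :: a28 :: a27 :: y26 :: y25 :: a24 :: y23 :: y22 :: y21 :: a20 :: L ∧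
      rL f pB2 (a33 :: a32 :: a31 :: a30 :: a29 :: a28 :: a27 :: 0 :: 0 :: a24 :: 0 :: 0 :: 0 :: a20 :: L) = z59 :: z58 :: z57 :: z56 :: z55 :: z54 :: z53 :: z52 :: z51 :: z50 :: z49 :: z48 :: z47 :: z46 :: z45 :: z44 :: z43 :: z42 :: z41 :: z40 :: z39 :: z38 :: z37 :: z36 :: z35 :: z34 :: a33 :: a32 :: a31 :: a30 :: a29 :: a28 :: a27 :: 0 :: 0 :: a24 :: 0 :: 0 :: 0 :: a20 :: L := by
  delta pB2
  simp only [rL_cons, rL_nil, evL_cons, evL_nil, get_cons_zero, get_cons_succ]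
  exact ⟨_, _, _, _, _, _, _, _, _, _, _, _, _, _, _, _, _, _, _, _, _, _, _, _, _, _, rfl, rfl⟩

private theorem glueB (f : ℕ → ℕ → ℕ) (L M : List ℕ) {a33 a32 a31 a30 a29 a28 a27 a24 a20 : ℕ}
    (h0 : ¬ a33 = 0 ∧ ¬ a32 = 0 ∧ ¬ a31 = 0 ∧ ¬ a30 = 0 ∧ ¬ a29 = 0 ∧ ¬ a28 = 0 ∧ ¬ a27 = 0 ∧ ¬ a24 = 0 ∧ ¬ a20 = 0)
    (h1 : subD (a33 :: a32 :: a31 :: a30 :: a29 :: a28 :: a27 :: 0 :: 0 :: a24 :: 0 :: 0 :: 0 :: a20 :: []) (rL f pB1 L) = true)
    (h2 : eqD eB (rL f pB2 (a33 :: a32 :: a31 :: a30 :: a29 :: a28 :: a27 :: 0 :: 0 :: a24 :: 0 :: 0 :: 0 :: a20 :: L)) = true)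
    (h3 : subD (0 :: 0 :: 0 :: 0 :: 0 :: 0 :: 0 :: 0 :: 0 :: 0 :: 0 :: 0 :: 0 :: 0 :: 0 :: 0 :: 0 :: 0 :: 0 :: 0 :: 0 :: 0 :: 0 :: 0 :: 0 :: 0 :: a33 :: a32 :: a31 :: a30 :: a29 :: a28 :: a27 :: 0 :: 0 :: a24 :: 0 :: 0 :: 0 :: a20 :: M) (rL f pB2 (a33 :: a32 :: a31 :: a30 :: a29 :: a28 :: a27 :: 0 :: 0 :: a24 :: 0 :: 0 :: 0 :: a20 :: L)) = true) :
    eqD eB (rL f pB L) = true ∧ subD (0 :: 0 :: 0 :: 0 :: 0 :: 0 :: 0 :: 0 :: 0 :: 0 :: 0 :: 0 :: 0 :: 0 :: 0 :: 0 :: 0 :: 0 :: 0 :: 0 :: 0 :: 0 :: 0 :: 0 :: 0 :: 0 :: a33 :: a32 :: a31 :: a30 :: a29 :: a28 :: a27 :: 0 :: 0 :: a24 :: 0 :: 0 :: 0 :: a20 :: M) (rL f pB L) = true := by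
  obtain ⟨x33, x32, x31, x30, x29, x28, x27, x26, x25, x24, x23, x22, x21, x20, e⟩ := shapeB f L
  rw [e] at h1
  simp only [sub_cons, h0, false_or] at h1
  obtain ⟨rfl, rfl, rfl, rfl, rfl, rfl, rfl, -, -, rfl, -, -, -, rfl, -⟩ := h1
  obtain ⟨z59, z58, z57, z56, z55, z54, z53, z52, z51, z50, z49, z48, z47, z46, z45, z44, z43, z42, z41, z40, z39, z38, z37, z36, z35, z34, e1, e2⟩ := freeB f L M a33 a32 a31 a30 a29 a28 a27 a24 a20 x26 x25 x23 x22 x21
  rw [show pB = pB1 ++ pB2 from rfl, rL_append, e, e1]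
  rw [e2] at h2 h3
  exact ⟨h2, h3⟩

theorem chkB : stage C pB eB nB NA NB = true := by
  obtain ⟨-, -, -, h1⟩ := (stage_iff _ _ _ _ _ _).1 chkB1
  obtain ⟨-, h2, -, h3⟩ := (stage_iff _ _ _ _ _ _).1 chkB2
  have h := glueB _ _ _ (by decide +kernel) h1 h2 h3
  exact (stage_iff _ _ _ _ _ _).2 ⟨by decide +kernel, h.1, rfl, h.2⟩

theorem chkC : stage C pC eC nC NB [] = true := by decide +kernel

theorem prog_eq : prog = pA ++ (pB ++ pC) := rfl

theorem stA : (∀ q ∈ eA, (runG pA (runG ws LG)).getD q.1 1 = (runG pA (runG ws LG)).getD q.2 1) ∧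
    (∀ q ∈ nA, (runG pA (runG ws LG)).getD q.1 1 ≠ (runG pA (runG ws LG)).getD q.2 1) ∧
    List.Forall₂ (CodesD C) (runG pA (runG ws LG)) NA := by
  have h := stage_sound (good_of_check Rep.good) (results.imp fun _ _ h => ofR h) chkA (by decide)
  exact ⟨h.1, h.2.1, h.2.2 rfl⟩

theorem stB : (∀ q ∈ eB, (runG pB (runG pA (runG ws LG))).getD q.1 1 = (runG pB (runG pA (runG ws LG))).getD q.2 1) ∧
    List.Forall₂ (CodesD C) (runG pB (runG pA (runG ws LG))) NB := by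
  have h := stage_sound (good_of_check Rep.good) stA.2.2 chkB (by decide)
  exact ⟨h.1, h.2.2 rfl⟩

theorem stC : ∀ q ∈ eC, (runG pC (runG pB (runG pA (runG ws LG)))).getD q.1 1 =
    (runG pC (runG pB (runG pA (runG ws LG)))).getD q.2 1 :=
  (stage_sound (good_of_check Rep.good) stB.2 chkC (by decide)).1

theorem res_eq : runG prog (runG ws LG) = runG pC (runG pB (runG pA (runG ws LG))) := by
  rw [prog_eq, runG_append, runG_append]

theorem getA (m : ℕ) : (runG prog (runG ws LG)).getD (65 + m) 1 = (runG pA (runG ws LG)).getD m 1 := by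
  have e : 65 + m = pC.length + (pB.length + m) := by
    change 65 + m = 25 + (40 + m)
    omega
  rw [res_eq, e, runG_getD, runG_getD]

theorem getB (m : ℕ) : (runG prog (runG ws LG)).getD (25 + m) 1 = (runG pB (runG pA (runG ws LG))).getD m 1 := by
  have e : 25 + m = pC.length + m := rfl
  rw [res_eq, e, runG_getD]

theorem sound : (∀ q ∈ es, (runG prog (runG ws LG)).getD q.1 1 = (runG prog (runG ws LG)).getD q.2 1) ∧
    (∀ q ∈ ns, (runG prog (runG ws LG)).getD q.1 1 ≠ (runG prog (runG ws LG)).getD q.2 1) := by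
  have k1 : ∀ q ∈ es, (∃ r ∈ eB, q = (25 + r.1, 25 + r.2)) ∨ q ∈ eC := by decide
  have k2 : ∀ q ∈ ns, ∃ r ∈ nA, q = (65 + r.1, 65 + r.2) := by decide
  refine ⟨fun q hq => ?_, fun q hq => ?_⟩
  · rcases k1 q hq with ⟨r, hr, rfl⟩ | hr
    · rw [getB, getB]
      exact stB.1 r hr
    · rw [res_eq]
      exact stC q hr
  · obtain ⟨r, hr, rfl⟩ := k2 q hq
    rw [getA, getA]
    exact stA.2.1 r hr

/-- the results in the presented group -/
noncomputable def R (i : ℕ) : Cfsg.Spor.HN := (runG prog (runG ws gens)).getD i 1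

theorem rho_R (i : ℕ) : rho (R i) = (runG prog (runG ws LG)).getD i 1 := by
  unfold R
  rw [← Rep.gens_map, runG_map, runG_map, List.getD_eq_getElem?_getD, List.getD_eq_getElem?_getD, List.getElem?_map]
  cases (runG prog (runG ws gens))[i]? with
  | none => simp
  | some b => simp

theorem eqR {i j : ℕ} (h : (i, j) ∈ es) : R i = R j := by
  have := Cfsg.Agent.S1701.result.1
  apply A12Group.rho_injective
  rw [rho_R, rho_R]
  exact sound.1 (i, j) h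

theorem neR {i j : ℕ} (h : (i, j) ∈ ns) : R i ≠ R j := by
  intro h1
  refine sound.2 (i, j) h ?_
  rw [← rho_R, ← rho_R, h1]

theorem stepR {i : ℕ} {w : List ℕ} (hi : i < prog.length)
    (hw : ((prog.reverse.getD i (0, [])).1 :: (prog.reverse.getD i (0, [])).2) = w) :
    R i = evF (fun m => R (i + 1 + m)) w := by
  rw [← hw]
  exact runG_step prog (runG ws gens) i hi

theorem genR (m : ℕ) : R (prog.length + (ws.length + m)) = gens.getD m 1 :=
  (runG_getD prog (runG ws gens) _).trans (runG_getD ws gens m)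

end Cfsg.Agent.H235.AA.HN3
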